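import Groth.Agent.GeomIrrSpread.SmoothNeutral

/-!
# The neutral component as an open subgroup
-/

universe u

open CategoryTheory Limits AlgebraicGeometry MonoidalCategory CartesianMonoidalCategory MonObj GrpObj
  TopologicalSpace
open scoped CategoryTheory.Obj

set_option autoImplicit false

namespace Groth.Agent.GeomIrrSpread

open Groth.Agent.GrpSchLib Groth.Agent.GrpSchLib.Neutral

variable {S : Scheme.{u}} (G : Over S) [GrpObj G] (N : G.left.Opens) (hN : (N : Set G.left) = SGA3x.neutralSet G)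

include hN

/-- An open neutral component is an open subgroup. -/
theorem exists_grpObj_open : ∃ str : GrpObj (Over.mk (N.ι ≫ G.hom)),
    @IsMonHom _ _ _ (Over.mk (N.ι ≫ G.hom)) G str.toMonObj _ (Over.homMk N.ι rfl) := by
  let P := Over.mk (N.ι ≫ G.hom)
  let a : P ⟶ G := Over.homMk N.ι rfl
  haveI : Mono a.left := inferInstanceAs (Mono N.ι)
  haveI : Mono a := Over.mono_of_mono_left a
  have ha : ∀ z : P.left, a.left z ∈ SGA3x.neutralSet G := fun z => hN.le (z : N).2
  have lift_ : ∀ {Q : Over S} (f : Q ⟶ G), (∀ q, f.left q ∈ SGA3x.neutralSet G) → ∃ f' : Q ⟶ P, f' ≫ a = f := by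
    intro Q f hf
    have hr : Set.range f.left ⊆ Set.range N.ι := by
      rw [Scheme.Opens.range_ι, hN]
      exact Set.range_subset_iff.mpr hf
    exact ⟨Over.homMk (IsOpenImmersion.lift N.ι f.left hr) (by
      show IsOpenImmersion.lift N.ι f.left hr ≫ N.ι ≫ G.hom = Q.hom
      rw [IsOpenImmersion.lift_fac_assoc, Over.w f]), Over.OverMorphism.ext (IsOpenImmersion.lift_fac _ _ _)⟩
  obtain ⟨η', he⟩ := lift_ η[G] fun q => unit_mem_neutralSet G q
  obtain ⟨μ', hm⟩ := lift_ ((fst P P ≫ a) * (snd P P ≫ a)) fun q => by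
    show (lift (fst P P ≫ a) (snd P P ≫ a) ≫ μ[G]).left q ∈ _
    rw [left_comp_apply]
    refine mul_mem_neutralSet G ?_ ?_
    · rw [← left_comp_apply, lift_fst, left_comp_apply]
      exact ha _
    · rw [← left_comp_apply, lift_snd, left_comp_apply]
      exact ha _
  obtain ⟨iv, hv⟩ := lift_ a⁻¹ fun q => by
    rw [show a⁻¹ = a ≫ (GrpObj.inv : G ⟶ G) from Hom.inv_def a, left_comp_apply]
    exact inv_mem_neutralSet G (ha _)
  exact exists_grpObj_of_mono a η' he μ' hm iv hv

end Groth.Agent.GeomIrrSpread
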