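import Groth.Agent.GeomIrrSpread.Neutral
import Groth.Agent.Proj16.DVRPath
import Groth.Agent.Neron6.BirOpen
import Groth.Agent.SrcDescent.SmoothFppf
import Groth.Agent.GrpSchLib.MonoSubgroup
import Groth.Agent.S3403
import Mathlib.RingTheory.Valuation.ValuationSubring

/-!
# The neutral component of a group scheme smooth along the unit section

Specializations into a section of a smooth morphism stay in its connected component, because a smooth
scheme over a valuation ring has integral local rings; hence the neutral component is open.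
-/

universe u

open CategoryTheory Limits AlgebraicGeometry MonoidalCategory CartesianMonoidalCategory MonObj GrpObj
  TopologicalSpace
open scoped CategoryTheory.Obj

set_option autoImplicit false

namespace Groth.Agent.GeomIrrSpread

theorem isNormalScheme_spec (R : Type u) [CommRing R] [IsDomain R] [IsIntegrallyClosed R] :
    Pi1.IsNormalScheme (Spec (CommRingCat.of R)) := fun p => by
  letI : Algebra R ((Spec (CommRingCat.of R)).presheaf.stalk p) := (StructureSheaf.toStalk R p).hom.toAlgebra
  haveI : IsLocalization.AtPrime ((Spec (CommRingCat.of R)).presheaf.stalk p) p.asIdeal :=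
    inferInstanceAs (IsLocalization.AtPrime ((Spec.structureSheaf R).presheaf.stalk p) p.asIdeal)
  exact ⟨IsLocalization.isDomain_of_le_nonZeroDivisors (M := p.asIdeal.primeCompl) _
      p.asIdeal.primeCompl_le_nonZeroDivisors,
    isIntegrallyClosed_of_isLocalization _ p.asIdeal.primeCompl p.asIdeal.primeCompl_le_nonZeroDivisors⟩

section Section

variable {X S : Scheme.{u}} (f : X ⟶ S) (e : S ⟶ X) (he : e ≫ f = 𝟙 S)

include he

theorem fromSpecResidueField_comp_section (s : S) :
    X.fromSpecResidueField (e s) ≫ f ≫ e = X.fromSpecResidueField (e s) := by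
  haveI : IsImmersion (e ≫ f) := by rw [he]; infer_instance
  haveI : IsImmersion e := IsImmersion.of_comp e f
  haveI : IsIso (e.residueFieldMap s) := by
    refine (ConcreteCategory.isIso_iff_bijective _).mpr ⟨RingHom.injective _, fun a => ?_⟩
    obtain ⟨b, rfl⟩ := IsLocalRing.residue_surjective a
    obtain ⟨c, rfl⟩ := e.stalkMap_surjective s b
    exact ⟨IsLocalRing.residue _ c, rfl⟩
  haveI : IsIso (Spec.map (e.residueFieldMap s)) := inferInstance
  rw [← cancel_epi (Spec.map (e.residueFieldMap s)), Scheme.Hom.SpecMap_residueFieldMap_fromSpecResidueField_assoc,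
    Scheme.Hom.SpecMap_residueFieldMap_fromSpecResidueField, reassoc_of% he]

/-- A specialization into a section of a smooth morphism stays in the connected component of the section. -/
theorem mem_connectedComponentIn_of_specializes (U : X.Opens) [Smooth (U.ι ≫ f)] {s : S} (hu : e s ∈ U) {y : X}
    (hy : y ⤳ e s) : y ∈ connectedComponentIn (f ⁻¹' {f y}) (e (f y)) := by
  have hsp : (𝟙 X : X ⟶ X) y ⤳ e s := hy
  obtain ⟨A, hA, hloc⟩ := IsLocalRing.exists_factor_valuationRing (Proj16.specMapResidue hsp).hom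
  obtain ⟨g, hg1, hg2⟩ := Proj16.exists_path hsp A hA hloc
  rw [Category.comp_id] at hg2
  let O := CommRingCat.of A
  let gp : Spec O := Spec.map (CommRingCat.ofHom A.subtype) (IsLocalRing.closedPoint (X.residueField y))
  have hgp : gp.asIdeal = ⊥ := by
    show (IsLocalRing.maximalIdeal (X.residueField y)).comap A.subtype = ⊥
    rw [IsLocalRing.maximalIdeal_eq_bot]
    exact (RingHom.injective_iff_ker_eq_bot A.subtype).mp Subtype.val_injective
  have hggp : g gp = y := by
    show g (Spec.map (CommRingCat.ofHom A.subtype) _) = y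
    rw [← Scheme.Hom.comp_apply, hg2]
    exact Scheme.fromSpecResidueField_apply _ _
  let h : Spec O ⟶ S := g ≫ f
  have hes : e (f (e s)) = e s := by
    rw [← Scheme.Hom.comp_apply e f, he]
    rfl
  have hgU : Set.range g ⊆ Set.range U.ι := by
    rw [Scheme.Opens.range_ι]
    rintro _ ⟨z, rfl⟩
    exact (hg1 ▸ (IsLocalRing.specializes_closedPoint z).map g.continuous : g z ⤳ e s).mem_open U.2 hu
  have hhU : Set.range (h ≫ e) ⊆ Set.range U.ι := by
    rw [Scheme.Opens.range_ι]
    rintro _ ⟨z, rfl⟩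
    have h1 := (IsLocalRing.specializes_closedPoint z).map (h ≫ e).continuous
    rw [show (h ≫ e) (IsLocalRing.closedPoint A) = e (f (g (IsLocalRing.closedPoint A))) from rfl, hg1, hes] at h1
    exact h1.mem_open U.2 hu
  let u₁ := IsOpenImmersion.lift U.ι g hgU
  let u₂ := IsOpenImmersion.lift U.ι (h ≫ e) hhU
  have hu₁ : u₁ ≫ U.ι = g := IsOpenImmersion.lift_fac _ _ _
  have hu₂ : u₂ ≫ U.ι = h ≫ e := IsOpenImmersion.lift_fac _ _ _
  let σ : Spec O ⟶ pullback (U.ι ≫ f) h := pullback.lift u₁ (𝟙 _) (by rw [← Category.assoc, hu₁, Category.id_comp])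
  let τ : Spec O ⟶ pullback (U.ι ≫ f) h := pullback.lift u₂ (𝟙 _)
    (by rw [← Category.assoc, hu₂, Category.assoc, he, Category.comp_id, Category.id_comp])
  let K := IsLocalRing.ResidueField A
  let c : Spec (CommRingCat.of K) ⟶ Spec O := Spec.map (CommRingCat.ofHom (IsLocalRing.residue A))
  have hc : c (IsLocalRing.closedPoint K) = IsLocalRing.closedPoint A :=
    IsLocalRing.comap_closedPoint (IsLocalRing.residue A)
  have hcg : c ≫ g = c ≫ h ≫ e := by
    obtain ⟨⟨x, φ⟩, hxφ⟩ := (Scheme.SpecToEquivOfField K X).symm.surjective (c ≫ g)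
    replace hxφ : Spec.map φ ≫ X.fromSpecResidueField x = c ≫ g := hxφ
    have hx : x = e s := by
      have := congrArg (fun m : Spec (CommRingCat.of K) ⟶ X => m (IsLocalRing.closedPoint K)) hxφ
      simp only [Scheme.Hom.comp_apply, Scheme.fromSpecResidueField_apply] at this
      rw [this, hc, hg1]
    subst hx
    rw [show c ≫ h ≫ e = (c ≫ g) ≫ f ≫ e by simp only [h, Category.assoc], ← hxφ, Category.assoc,
      fromSpecResidueField_comp_section f e he]
  have hστ : c ≫ σ = c ≫ τ := by
    apply pullback.hom_ext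
    · rw [Category.assoc, Category.assoc, pullback.lift_fst, pullback.lift_fst, ← cancel_mono U.ι,
        Category.assoc, Category.assoc, hu₁, hu₂, hcg]
    · rw [Category.assoc, Category.assoc, pullback.lift_snd, pullback.lift_snd]
  let R₀ := σ (IsLocalRing.closedPoint A)
  have hR₀ : τ (IsLocalRing.closedPoint A) = R₀ := by
    have := congrArg (fun m : Spec (CommRingCat.of K) ⟶ pullback (U.ι ≫ f) h => m (IsLocalRing.closedPoint K)) hστ
    simp only [Scheme.Hom.comp_apply, hc] at this
    exact this.symm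
  haveI : Smooth (pullback.snd (U.ι ≫ f) h) := MorphismProperty.pullback_snd (P := @Smooth) _ _ inferInstance
  haveI := (Neron6.isNormalScheme_of_smooth (pullback.snd (U.ι ≫ f) h) (isNormalScheme_spec A) R₀).1
  let η₀ : ↥(pullback (U.ι ≫ f) h) :=
    (pullback (U.ι ≫ f) h).fromSpecStalk R₀ (⟨⊥, Ideal.isPrime_bot⟩ : PrimeSpectrum _)
  have hgen : ∀ z, z ⤳ R₀ → η₀ ⤳ z := by
    intro z hz
    have : z ∈ Set.range ((pullback (U.ι ≫ f) h).fromSpecStalk R₀) := by
      rw [Scheme.range_fromSpecStalk]; exact hz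
    obtain ⟨p, rfl⟩ := this
    exact ((PrimeSpectrum.le_iff_specializes (⟨⊥, Ideal.isPrime_bot⟩ : PrimeSpectrum _) p).mp bot_le).map
      (Scheme.Hom.continuous _)
  have hgc : gp ⤳ IsLocalRing.closedPoint A := IsLocalRing.specializes_closedPoint gp
  have hP := hgen (σ gp) (hgc.map σ.continuous)
  have hQ := hgen (τ gp) (hR₀ ▸ hgc.map τ.continuous)
  have hsσ : ∀ z, pullback.snd (U.ι ≫ f) h (σ z) = z := fun z => by
    rw [← Scheme.Hom.comp_apply, pullback.lift_snd]
    rfl
  have hη : pullback.snd (U.ι ≫ f) h η₀ = gp := by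
    have h1 := hP.map (pullback.snd (U.ι ≫ f) h).continuous
    rw [hsσ] at h1
    have h2 := (PrimeSpectrum.le_iff_specializes _ _).mpr h1
    refine PrimeSpectrum.ext (le_antisymm h2 ?_)
    rw [hgp]
    exact bot_le
  let π := pullback.fst (U.ι ≫ f) h ≫ U.ι
  have hπf : f (π η₀) = f y := by
    rw [← Scheme.Hom.comp_apply, show π ≫ f = pullback.snd (U.ι ≫ f) h ≫ h by
      rw [Category.assoc, pullback.condition], Scheme.Hom.comp_apply, hη, ← hggp]
    rfl
  have hπy : π η₀ ⤳ y := by
    have h1 := hP.map π.continuous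
    rwa [← Scheme.Hom.comp_apply σ π, show σ ≫ π = g by rw [← Category.assoc, pullback.lift_fst, hu₁],
      hggp] at h1
  have hπe : π η₀ ⤳ e (f y) := by
    have h1 := hQ.map π.continuous
    rw [← Scheme.Hom.comp_apply τ π, show τ ≫ π = h ≫ e by rw [← Category.assoc, pullback.lift_fst, hu₂],
      show (h ≫ e) gp = e (f (g gp)) from rfl, hggp] at h1
    exact h1
  have hpre : _root_.IsPreconnected (closure {π η₀} ∩ f ⁻¹' {f y}) :=
    isPreconnected_singleton.subset_closure (Set.singleton_subset_iff.mpr ⟨subset_closure rfl, hπf⟩)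
      Set.inter_subset_left
  refine hpre.subset_connectedComponentIn ⟨hπe.mem_closure, ?_⟩ Set.inter_subset_right ⟨hπy.mem_closure, rfl⟩
  show f (e (f y)) = f y
  rw [← Scheme.Hom.comp_apply e f, he]
  rfl

end Section

open Groth.Agent.GrpSchLib Groth.Agent.GrpSchLib.Neutral

variable {S : Scheme.{u}} (G : Over S) [GrpObj G]

theorem inv_mem_neutralSet {x : G.left} (hx : x ∈ SGA3x.neutralSet G) :
    (GrpObj.inv : G ⟶ G).left x ∈ SGA3x.neutralSet G := by
  let iv := (GrpObj.inv : G ⟶ G)
  have hfib : ∀ z, G.hom (iv.left z) = G.hom z := fun z =>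
    congrArg (fun m : G.left ⟶ S => m z) (Over.w iv)
  have hunit : ∀ s, iv.left (unit G s) = unit G s := fun s => by
    have h : η[G] ≫ iv = η[G] := GrpObj.one_inv
    exact congrArg (fun m : 𝟙_ (Over S) ⟶ G => m.left s) h
  rw [mem_neutralSet_iff] at hx
  rw [mem_neutralSet_iff, hfib]
  refine (isPreconnected_connectedComponentIn.image _ iv.left.continuous.continuousOn).subset_connectedComponentIn
    ⟨_, mem_connectedComponentIn (hom_unit G _), hunit _⟩ ?_ ⟨x, hx, rfl⟩
  rintro _ ⟨w, hw, rfl⟩
  show G.hom (iv.left w) = G.hom x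
  rw [hfib]
  exact (connectedComponentIn_subset (G.hom ⁻¹' {G.hom x}) _ hw : _)

variable (U : G.left.Opens) [Smooth (U.ι ≫ G.hom)] (hU : ∀ s : S, unit G s ∈ U)

include hU

theorem lfpNearUnit_of_smooth : LfpNearUnit G := ⟨fun s => ⟨U, hU s, inferInstance⟩⟩

/-- The neutral component is a neighbourhood of the unit section. -/
theorem unit_mem_interior_neutralSet (s : S) : unit G s ∈ interior (SGA3x.neutralSet G) := by
  haveI := lfpNearUnit_of_smooth G U hU
  obtain ⟨V, hV, hsV, -⟩ := exists_isAffineOpen_mem_and_subset (show s ∈ (⊤ : S.Opens) from trivial)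
  obtain ⟨W, hW, hWu, hWle⟩ := exists_isAffineOpen_mem_and_subset
    (show unit G s ∈ U ⊓ G.hom ⁻¹ᵁ V from ⟨hU s, by show G.hom (unit G _) ∈ V; rwa [hom_unit]⟩)
  haveI : LocallyOfFiniteType (W.ι ≫ G.hom) := by
    rw [show W.ι ≫ G.hom = G.left.homOfLE (fun z hz => (hWle hz).1 : W ≤ U) ≫ U.ι ≫ G.hom by
      rw [Scheme.homOfLE_ι_assoc]]
    infer_instance
  obtain ⟨T, hT, hTe, -⟩ := exists_constructible_pieces G hV hW fun z hz => (hWle hz).2
  let E : Set (W : Scheme.{u}) := Subtype.val ⁻¹' SGA3x.neutralSet G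
  have hE : ProCons.IsIndConstructible E := fun x =>
    ⟨Set.univ, isOpen_univ, trivial, (fun A => Subtype.val ⁻¹' A) '' T, by
      rintro _ ⟨A, hA, rfl⟩
      exact (hT A hA).isLocallyConstructible.preimage_of_isOpenEmbedding isOpen_univ.isOpenEmbedding_subtypeVal, by
      rw [Set.sUnion_image, show E = ⋃₀ T from hTe]
      exact Set.preimage_sUnion⟩
  have hint : (⟨unit G s, hWu⟩ : (W : Scheme.{u})) ∈ interior E := by
    refine (S3403.result _ E hE _).mpr fun y hy => ?_
    have hy' : W.ι y ⤳ unit G s := hy.map continuous_subtype_val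
    show W.ι y ∈ SGA3x.neutralSet G
    rw [mem_neutralSet_iff]
    exact mem_connectedComponentIn_of_specializes G.hom (unit G) (Over.w η[G]) U (hU s) hy'
  refine mem_interior.mpr ⟨Subtype.val '' interior E, ?_, W.2.isOpenEmbedding_subtypeVal.isOpenMap _ isOpen_interior,
    ⟨_, hint, rfl⟩⟩
  rintro _ ⟨y, hy, rfl⟩
  exact interior_subset (s := E) hy

/-- The neutral component is open, and smooth over the base. -/
theorem exists_smooth_open : ∃ N : G.left.Opens, (N : Set G.left) = SGA3x.neutralSet G ∧ Smooth (N.ι ≫ G.hom) := by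
  haveI := lfpNearUnit_of_smooth G U hU
  let W : G.left.Opens := ⟨interior (SGA3x.neutralSet G) ∩ U, isOpen_interior.inter U.2⟩
  have hWu : ∀ s, unit G s ∈ W := fun s => ⟨unit_mem_interior_neutralSet G U hU s, hU s⟩
  haveI : Smooth (W.ι ≫ G.hom) := by
    rw [show W.ι ≫ G.hom = G.left.homOfLE (fun z hz => hz.2 : W ≤ U) ≫ U.ι ≫ G.hom by
      rw [Scheme.homOfLE_ι_assoc]]
    infer_instance
  let T : Over S := Over.mk (W.ι ≫ G.hom)
  let j : T ⟶ G := Over.homMk W.ι rfl
  haveI : Smooth T.hom := inferInstanceAs (Smooth (W.ι ≫ G.hom))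
  -- the product restricted to `G × W`
  let b : G ⊗ T ⟶ G := snd G T ≫ j
  let sh : G ⊗ T ≅ G ⊗ T :=
    { hom := lift (fst G T * b) (snd G T)
      inv := lift (fst G T * b⁻¹) (snd G T)
      hom_inv_id := by
        apply CartesianMonoidalCategory.hom_ext
        · rw [Category.assoc, lift_fst, MonObj.comp_mul, GrpObj.comp_inv, lift_fst, Category.id_comp]
          simp only [b, ← Category.assoc, lift_snd, mul_inv_cancel_right]
        · rw [Category.assoc, lift_snd, lift_snd, Category.id_comp]
      inv_hom_id := by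
        apply CartesianMonoidalCategory.hom_ext
        · rw [Category.assoc, lift_fst, MonObj.comp_mul, lift_fst, Category.id_comp]
          simp only [b, ← Category.assoc, lift_snd, inv_mul_cancel_right]
        · rw [Category.assoc, lift_snd, lift_snd, Category.id_comp] }
  let ψ : G ⊗ T ⟶ G := fst G T * b
  have hψ : ψ = sh.hom ≫ fst G T := (lift_fst _ _).symm
  haveI : IsIso sh.hom.left := ((Over.forget S).mapIso sh).isIso_hom
  haveI : Flat (fst G T).left := inferInstanceAs (Flat (pullback.fst G.hom T.hom))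
  haveI : LocallyOfFinitePresentation (fst G T).left :=
    inferInstanceAs (LocallyOfFinitePresentation (pullback.fst G.hom T.hom))
  haveI : Flat ψ.left := by rw [hψ, Over.comp_left]; infer_instance
  haveI : LocallyOfFinitePresentation ψ.left := by rw [hψ, Over.comp_left]; infer_instance
  haveI : UniversallyOpen ψ.left := UniversallyOpen.of_flat ψ.left
  let O : (G ⊗ T).left.Opens := (fst G T).left ⁻¹ᵁ W
  have hψμ : ∀ q, ψ.left q = μ[G].left ((lift (fst G T) b).left q) := fun q => by
    rw [← left_comp_apply]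
    rfl
  have himage : ψ.left '' (O : Set (G ⊗ T).left) = SGA3x.neutralSet G := by
    refine subset_antisymm ?_ fun x hx => ?_
    · rintro _ ⟨q, hq, rfl⟩
      rw [hψμ]
      refine mul_mem_neutralSet G ?_ ?_
      · rw [← left_comp_apply, lift_fst]
        exact interior_subset (s := SGA3x.neutralSet G) hq.1
      · rw [← left_comp_apply, lift_snd, left_comp_apply]
        exact interior_subset (s := SGA3x.neutralSet G) ((snd G T).left q : W).2.1
    · obtain ⟨p, hp1, hp2, hp⟩ := GrpSchLib.Neutral.exists_mul G hx W (hWu _)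
      obtain ⟨q, hq⟩ : p ∈ Set.range (G ◁ j).left := by
        rw [show (G ◁ j).left = pullback.map G.hom T.hom G.hom G.hom (𝟙 _) j.left (𝟙 _)
          (by simp) (by rw [Category.comp_id]; exact (Over.w j).symm) from Over.whiskerLeft_left j]
        rw [Scheme.Pullback.range_map]
        refine ⟨⟨(fst G G).left p, rfl⟩, ?_⟩
        show _ ∈ Set.range W.ι
        rw [Scheme.Opens.range_ι]
        exact hp2
      have e2 : lift (fst G T) b = G ◁ j := by
        apply CartesianMonoidalCategory.hom_ext <;> simp [b]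
      refine ⟨q, ?_, by rw [hψμ, e2, hq, hp]⟩
      show (fst G T).left q ∈ W
      rw [show fst G T = (G ◁ j) ≫ fst G G by simp, left_comp_apply, hq]
      exact hp1
  let N : G.left.Opens := ⟨SGA3x.neutralSet G, himage ▸ ψ.left.isOpenMap _ O.2⟩
  refine ⟨N, rfl, ?_⟩
  let k := ψ.left.resLE N O fun q hq => (himage.le ⟨q, hq, rfl⟩ : ψ.left q ∈ SGA3x.neutralSet G)
  haveI : Flat k := inferInstance
  haveI : LocallyOfFinitePresentation k := inferInstance
  haveI : Surjective k := ⟨fun x => by
    obtain ⟨q, hq, hqx⟩ := himage.ge x.2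
    refine ⟨⟨q, hq⟩, Subtype.ext ?_⟩
    have h : N.ι (k ⟨q, hq⟩) = ψ.left (O.ι ⟨q, hq⟩) := by
      rw [← Scheme.Hom.comp_apply, Scheme.Hom.resLE_comp_ι, Scheme.Hom.comp_apply]
    exact h.trans hqx⟩
  haveI : Smooth (k ≫ N.ι ≫ G.hom) := by
    rw [Scheme.Hom.resLE_comp_ι_assoc, Over.w ψ, show (G ⊗ T).hom = pullback.fst G.hom T.hom ≫ G.hom from rfl]
    have e : O.ι ≫ pullback.fst G.hom T.hom ≫ G.hom =
        (((fst G T).left ∣_ W) ≫ W.ι ≫ G.hom) := by
      rw [morphismRestrict_ι_assoc]
      rfl
    rw [e]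
    haveI : Smooth (fst G T).left := inferInstanceAs (Smooth (pullback.fst G.hom T.hom))
    haveI : Smooth ((fst G T).left ∣_ W) := IsZariskiLocalAtTarget.restrict ‹_› W
    infer_instance
  exact SrcDescent.smooth_of_fppf_comp k (N.ι ≫ G.hom)

end Groth.Agent.GeomIrrSpread
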