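import Groth.Agent.GeomIrrSpread.Neutral
import Groth.Agent.GrpSchLib.FibreDimGrp
import Groth.Agent.UnivOpen.SectionUnivOpen
import Groth.Agent.S4933
import Groth.Agent.ProConsLib.Image

/-!
# Universal openness along the neutral component and the dimension of the fibres
-/

universe u

open CategoryTheory Limits AlgebraicGeometry MonoidalCategory CartesianMonoidalCategory MonObj GrpObj
  TopologicalSpace
open scoped CategoryTheory.Obj

set_option autoImplicit false

namespace Groth.Agent.GeomIrrSpread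

open Groth.Agent.GrpSchLib Groth.Agent.GrpSchLib.Neutral

variable {S : Scheme.{u}} (G : Over S) [GrpObj G] [LocallyOfFinitePresentation G.hom]

theorem neutralSet_inter_fibre (s : S) :
    SGA3x.neutralSet G ∩ G.hom ⁻¹' {s} = connectedComponentIn (G.hom ⁻¹' {s}) (unit G s) := by
  ext x
  constructor
  · rintro ⟨hx, hxs : G.hom x = s⟩
    rwa [mem_neutralSet_iff, hxs] at hx
  · intro hx
    have hxs : G.hom x = s := connectedComponentIn_subset (G.hom ⁻¹' {s}) _ hx
    exact ⟨by rwa [mem_neutralSet_iff, hxs], hxs⟩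

theorem isIrreducible_bcπ (y : S) (K : Type u) [Field K] [Algebra (IsLocalRing.ResidueField (S.presheaf.stalk y)) K] :
    IsIrreducible ((FBase.bcπ (G.hom.fiberToSpecResidueField y) K ≫ G.hom.fiberι y) ⁻¹'
      connectedComponentIn (G.hom ⁻¹' {y}) (unit G y)) := by
  let a : S.residueField y →+* K := algebraMap (IsLocalRing.ResidueField (S.presheaf.stalk y)) K
  let x := Spec.map (CommRingCat.ofHom a)
  let e := pullbackLeftPullbackSndIso G.hom (S.fromSpecResidueField y) x
  have hirr := isIrreducible_preimage_neutralSet G y K a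
  have he : ∀ z, (FBase.bcπ (G.hom.fiberToSpecResidueField y) K ≫ G.hom.fiberι y) z =
      pullback.fst G.hom (x ≫ S.fromSpecResidueField y) (e.hom z) := fun z => by
    rw [← Scheme.Hom.comp_apply e.hom, pullbackLeftPullbackSndIso_hom_fst]
    rfl
  have : (FBase.bcπ (G.hom.fiberToSpecResidueField y) K ≫ G.hom.fiberι y) ⁻¹'
      connectedComponentIn (G.hom ⁻¹' {y}) (unit G y) =
      e.inv '' (pullback.fst G.hom (x ≫ S.fromSpecResidueField y) ⁻¹' SGA3x.neutralSet G) := by
    rw [← neutralSet_inter_fibre]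
    ext z
    constructor
    · intro hz
      refine ⟨e.hom z, ?_, ?_⟩
      · show pullback.fst G.hom (x ≫ S.fromSpecResidueField y) (e.hom z) ∈ SGA3x.neutralSet G
        rw [← he]
        exact hz.1
      · rw [← Scheme.Hom.comp_apply, e.hom_inv_id]
        rfl
    · rintro ⟨w, hw, rfl⟩
      have h1 : e.hom (e.inv w) = w := by rw [← Scheme.Hom.comp_apply, e.inv_hom_id]; rfl
      refine ⟨?_, ?_⟩
      · rw [he, h1]
        exact hw
      · show (FBase.bcπ (G.hom.fiberToSpecResidueField y) K ≫ G.hom.fiberι y) (e.inv w) ∈ G.hom ⁻¹' {y}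
        rw [← Scheme.Hom.range_fiberι G.hom y, Scheme.Hom.comp_apply]
        exact ⟨_, rfl⟩
  rw [this]
  exact hirr.image _ e.inv.continuous.continuousOn

theorem dim_neutral (s : S) :
    topologicalKrullDim ↥(connectedComponentIn (G.hom ⁻¹' {s}) (unit G s)) = topologicalKrullDim ↥(G.hom ⁻¹' {s}) :=
  (UnivOpen.dim_component G.hom (hom_unit G s)
    (UnivOpen.irreducible_of_geomIrreducible G.hom (g := unit G) (isIrreducible_bcπ G) s)).trans
    (FibreDimGrp.dim_eq G s).symm

/-- Constant dimension of the fibres gives universal openness along the neutral component. -/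
theorem isUnivOpenAt_of_dim (s : S)
    (h : ∀ t, t ⤳ s → topologicalKrullDim ↥(G.hom ⁻¹' {s}) ≤ topologicalKrullDim ↥(G.hom ⁻¹' {t}))
    {x : G.left} (hx : x ∈ SGA3x.neutralSet G ∩ G.hom ⁻¹' {s}) : EGA43.IsUnivOpenAt G.hom x :=
  UnivOpen.isUnivOpenAt_sectionComponent_fp G.hom (g := unit G) (Over.w η[G]) (isIrreducible_bcπ G) (y := s)
    (fun t ht => by
      rw [dim_neutral G s, dim_neutral G t]
      exact h t ht)
    (neutralSet_inter_fibre G s ▸ hx)

/-- Universal openness near the unit bounds the dimension of the nearby fibres from below. -/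
theorem dim_le_of_isUnivOpenAt (s : S) (W : G.left.Opens) (hW : unit G s ∈ W)
    (h : ∀ x ∈ SGA3x.neutralSet G ∩ G.hom ⁻¹' {s}, x ∈ W → EGA43.IsUnivOpenAt G.hom x) (t : S) (ht : t ⤳ s) :
    topologicalKrullDim ↥(G.hom ⁻¹' {s}) ≤ topologicalKrullDim ↥(G.hom ⁻¹' {t}) := by
  obtain ⟨ξ, hξ, hξe, hξm, hC, -, -⟩ := UnivOpen.exists_component_generic G.hom (hom_unit G s)
    (UnivOpen.irreducible_of_geomIrreducible G.hom (g := unit G) (isIrreducible_bcπ G) s)
  have hξC : ξ ∈ SGA3x.neutralSet G ∩ G.hom ⁻¹' {s} := by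
    rw [neutralSet_inter_fibre, hC]
    exact ⟨subset_closure rfl, hξ⟩
  have hmax : ∀ x' : G.left, G.hom x' = G.hom ξ → ξ ∈ closure {x'} → x' = ξ := fun x' h1 h2 =>
    hξm x' (specializes_iff_mem_closure.2 h2) h1
  have h1 := (S4933.result G.hom ξ hmax).1 (h ξ hξC (hξe.mem_open W.2 hW)) ⊤ trivial t
    (ht.trans (specializes_of_eq hξ.symm))
  rw [FibreDimGrp.fibreDimAt_eq, hξ] at h1
  refine h1.trans (le_of_eq ?_)
  exact (Homeomorph.setCongr (Set.univ_inter _)).isHomeomorph.topologicalKrullDim_eq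

/-- A lower bound on the generizations gives a neighbourhood where the dimension is constant. -/
theorem exists_nhds_dim_eq (s : S)
    (h : ∀ t, t ⤳ s → topologicalKrullDim ↥(G.hom ⁻¹' {s}) ≤ topologicalKrullDim ↥(G.hom ⁻¹' {t})) :
    ∃ U : Set S, U ∈ nhds s ∧ ∀ t ∈ U,
      topologicalKrullDim ↥(G.hom ⁻¹' {t}) = topologicalKrullDim ↥(G.hom ⁻¹' {s}) := by
  obtain ⟨n, hn⟩ := FibreDimGrp.exists_nat G s
  have hle : {t : S | topologicalKrullDim ↥(G.hom ⁻¹' {t}) ≤ (n : WithBot ℕ∞)} ∈ nhds s :=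
    (FibreDimGrp.isOpen_le G n).mem_nhds (show topologicalKrullDim ↥(G.hom ⁻¹' {s}) ≤ (n : WithBot ℕ∞) by rw [hn]; rfl)
  rcases n with _ | m
  · refine ⟨_, hle, fun t ht => ?_⟩
    obtain ⟨k, hk⟩ := FibreDimGrp.exists_nat G t
    have ht' : topologicalKrullDim ↥(G.hom ⁻¹' {t}) ≤ _ := ht
    rw [hk] at ht'
    have : k = 0 := by have h0 : k ≤ 0 := by exact_mod_cast ht'
                       omega
    rw [hk, hn, this]
  obtain ⟨V₀, hV₀, hsV₀, -⟩ := exists_isAffineOpen_mem_and_subset (show s ∈ (⊤ : S.Opens) from trivial)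
  obtain ⟨W, hW, hxW, -⟩ := exists_isAffineOpen_mem_and_subset (show unit G s ∈ (⊤ : G.left.Opens) from trivial)
  obtain ⟨V, hV, hsV, hVsub⟩ := exists_isAffineOpen_mem_and_subset
    (show s ∈ V₀ ⊓ unit G ⁻¹ᵁ W from ⟨hsV₀, hxW⟩)
  obtain ⟨_, _, _, _⟩ := ProConsLib.spectral_opens hV
  have hVW : V ≤ unit G ⁻¹ᵁ W := fun z hz => (hVsub hz).2
  let R : Set G.left := {x | FlatMor.fibreDimAt G.hom x ≤ (m : ℕ)}
  have hR : IsOpen R := FibDim.isOpen_fibreDimAt_le G.hom m
  have hRW : IsCompact (R ∩ (W : Set G.left)) :=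
    FibDim.isRetrocompact_setOf_fibreDimAt_le G.hom m hW.isCompact W.2
  let g : ↥(V : Set S) → ↥(W : Set G.left) := fun v => ⟨unit G v.1, hVW v.2⟩
  have hg : IsSpectralMap g := ProConsLib.isSpectralMap_of_affine (unit G) hW hV hVW
  have hK : IsCompact (Subtype.val ⁻¹' R : Set ↥(W : Set G.left)) := by
    rw [Subtype.isCompact_iff, Subtype.image_preimage_coe, Set.inter_comm]
    exact hRW
  let T : Set ↥(V : Set S) := g ⁻¹' (Subtype.val ⁻¹' R)
  have hT : ∀ v : ↥(V : Set S), v ∈ T ↔ topologicalKrullDim ↥(G.hom ⁻¹' {v.1}) ≤ (m : WithBot ℕ∞) := fun v => by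
    rw [FibreDimGrp.dim_eq]
    rfl
  have hTo : IsOpen T := (hR.preimage continuous_subtype_val).preimage hg.continuous
  have hTc : ProConsLib.ConsClosed T := ProConsLib.consClosed_of_isConstructible
    ((hg.isCompact_preimage_of_isOpen (hR.preimage continuous_subtype_val) hK).isConstructible hTo)
  have hns : (⟨s, hsV⟩ : ↥(V : Set S)) ∉ closure T := by
    intro hcl
    obtain ⟨z, hz, hzs⟩ := hTc.exists_specializes_of_mem_closure hcl
    have h1 := (h z.1 (hzs.map continuous_subtype_val)).trans ((hT z).1 hz)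
    rw [hn] at h1
    have : m + 1 ≤ m := by exact_mod_cast h1
    omega
  have hnhd : Subtype.val '' (closure T)ᶜ ∈ nhds s :=
    (V.2.isOpenEmbedding_subtypeVal.isOpenMap _ isClosed_closure.isOpen_compl).mem_nhds ⟨_, hns, rfl⟩
  refine ⟨_, Filter.inter_mem hle hnhd, ?_⟩
  rintro _ ⟨ht, v, hv, rfl⟩
  obtain ⟨k, hk⟩ := FibreDimGrp.exists_nat G v.1
  have h1 : ¬ topologicalKrullDim ↥(G.hom ⁻¹' {v.1}) ≤ (m : WithBot ℕ∞) := fun hm => hv (subset_closure ((hT v).2 hm))
  have ht' : topologicalKrullDim ↥(G.hom ⁻¹' {v.1}) ≤ _ := ht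
  rw [hk] at h1 ht'
  have h2 : k ≤ m + 1 := by exact_mod_cast ht'
  have h3 : ¬ k ≤ m := fun h4 => h1 (by exact_mod_cast h4)
  rw [hk, hn, show k = m + 1 by omega]

end Groth.Agent.GeomIrrSpread
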