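import Groth.Agent.GeomIrrSpread.Locus
import Groth.Agent.GrpSchLib.Neutral
import Groth.Agent.GrpSchLib.FieldComp
import Groth.Agent.ProConsLib.Basic
import Groth.Agent.S12442
import Groth.Agent.GrpSchLib.LftFromOpen

/-!
# Constructibility of the union of the neutral components
-/

universe u

open CategoryTheory Limits AlgebraicGeometry MonoidalCategory CartesianMonoidalCategory MonObj GrpObj
  TopologicalSpace
open scoped CategoryTheory.Obj Topology

set_option autoImplicit false

namespace Groth.Agent.GeomIrrSpread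

open Groth.Agent.GrpSchLib Groth.Agent.GrpSchLib.Neutral

variable {S : Scheme.{u}} (G : Over S) [GrpObj G]

/-- Products of points of the neutral components lie in the neutral components. -/
theorem mul_mem_neutralSet {p : (G ⊗ G).left} (h1 : (fst G G).left p ∈ SGA3x.neutralSet G)
    (h2 : (snd G G).left p ∈ SGA3x.neutralSet G) : μ[G].left p ∈ SGA3x.neutralSet G := by
  let t := (G ⊗ G).hom p
  let F := Over.pullback (S.fromSpecResidueField t)
  have hμ : G.hom (μ[G].left p) = t := congrArg (fun f : (G ⊗ G).left ⟶ S => f p) (Over.w μ[G])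
  have hfst : G.hom ((fst G G).left p) = t := congrArg (fun f : (G ⊗ G).left ⟶ S => f p) (Over.w (fst G G))
  have hsnd : G.hom ((snd G G).left p) = t := congrArg (fun f : (G ⊗ G).left ⟶ S => f p) (Over.w (snd G G))
  obtain ⟨p', hp'⟩ : p ∈ Set.range (pullback.fst (G ⊗ G).hom (S.fromSpecResidueField t)) :=
    (Scheme.Hom.range_fiberι (G ⊗ G).hom t).symm ▸ rfl
  obtain ⟨c, hc, hce⟩ := exists_isMaxPt (η[fib G t].left (IsLocalRing.closedPoint (S.residueField t)))
  let π := pullback.fst G.hom (S.fromSpecResidueField t)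
  have hπ : Topology.IsEmbedding π := (G.hom.fiberι t).isEmbedding
  have hmem : ∀ y : (fib G t).left, π y ∈ SGA3x.neutralSet G ↔ y ∈ closure {c} := by
    intro y
    have hy : G.hom (π y) = t := by
      have : π y ∈ Set.range π := ⟨y, rfl⟩
      rwa [show Set.range π = G.hom ⁻¹' {t} from Scheme.Hom.range_fiberι G.hom t] at this
    rw [mem_neutralSet_iff, hy, connectedComponentIn_eq, hπ.injective.mem_set_image,
      connectedComponent_one hc hce]
  let q : (fib G t ⊗ fib G t).left := (Functor.OplaxMonoidal.δ F G G).left p'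
  have hq : q ∈ prodSet (closure {c}) (closure {c}) := by
    constructor
    · rw [Set.mem_preimage, ← hmem, ← left_comp_apply, Functor.OplaxMonoidal.δ_fst, map_fst, hp']
      exact h1
    · rw [Set.mem_preimage, ← hmem, ← left_comp_apply, Functor.OplaxMonoidal.δ_snd, map_fst, hp']
      exact h2
  have h := (hmem _).mpr (mul_mem_closure hc hce hq)
  have hcomp : μ[F.obj G] = Functor.LaxMonoidal.μ F G G ≫ F.map μ[G] := rfl
  rwa [show q = (Functor.OplaxMonoidal.δ F G G).left p' from rfl, ← left_comp_apply, hcomp,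
    Functor.Monoidal.δ_μ_assoc, map_fst, hp'] at h

/-- `G` is locally of finite presentation near the unit section. -/
class LfpNearUnit : Prop where
  exists_open : ∀ s : S, ∃ O : G.left.Opens, unit G s ∈ O ∧ LocallyOfFinitePresentation (O.ι ≫ G.hom)

instance [LocallyOfFinitePresentation G.hom] : LfpNearUnit G :=
  ⟨fun s => ⟨⊤, trivial, inferInstance⟩⟩

variable [LfpNearUnit G]

theorem locallyOfFiniteType_fib (t : S) : LocallyOfFiniteType (fib G t).hom := by
  obtain ⟨O, hO, hlfp⟩ := LfpNearUnit.exists_open (G := G) t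
  haveI := hlfp
  let π := pullback.fst G.hom (S.fromSpecResidueField t)
  refine LftFromOpen.locallyOfFiniteType_of_mem (G := fib G t)
    (x := η[fib G t].left (IsLocalRing.closedPoint (S.residueField t))) ⟨π ⁻¹ᵁ O, ?_, ?_⟩
  · show π _ ∈ O
    rw [fst_unit]
    exact hO
  · exact MorphismProperty.of_isPullback (P := @LocallyOfFiniteType)
      (Loci.isPullback_restrict (IsPullback.of_hasPullback G.hom (S.fromSpecResidueField t)) O) inferInstance

/-- Near the unit of a fibre the fibre is contained in the neutral component. -/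
theorem exists_open_unit (t : S) : ∃ O : G.left.Opens, unit G t ∈ O ∧
    (O : Set G.left) ∩ G.hom ⁻¹' {t} ⊆ SGA3x.neutralSet G ∧ LocallyOfFinitePresentation (O.ι ≫ G.hom) := by
  let π := pullback.fst G.hom (S.fromSpecResidueField t)
  have hπ : Topology.IsEmbedding π := (G.hom.fiberι t).isEmbedding
  haveI : LocallyOfFiniteType (fib G t).hom := locallyOfFiniteType_fib G t
  obtain ⟨O₀, hO₀, hlfp⟩ := LfpNearUnit.exists_open (G := G) t
  haveI : IsLocallyNoetherian (fib G t).left := LocallyOfFiniteType.isLocallyNoetherian (fib G t).hom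
  obtain ⟨O, hO, hOe⟩ := hπ.isInducing.isOpen_iff.mp
    (isOpen_connectedComponent (η[fib G t].left (IsLocalRing.closedPoint (S.residueField t))))
  refine ⟨⟨O, hO⟩ ⊓ O₀, ⟨?_, hO₀⟩, ?_, ?_⟩
  · show unit G t ∈ O
    rw [← fst_unit G t (IsLocalRing.closedPoint (S.residueField t))]
    exact hOe.ge mem_connectedComponent
  rotate_left
  · haveI := hlfp
    let O' : G.left.Opens := ⟨O, hO⟩ ⊓ O₀
    show LocallyOfFinitePresentation (O'.ι ≫ G.hom)
    rw [show O'.ι ≫ G.hom = G.left.homOfLE (inf_le_right : O' ≤ O₀) ≫ O₀.ι ≫ G.hom by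
      rw [Scheme.homOfLE_ι_assoc]]
    infer_instance
  · rintro x ⟨⟨hxO, -⟩, hxt : G.hom x = t⟩
    obtain ⟨y, rfl⟩ : x ∈ Set.range π :=
      (Scheme.Hom.range_fiberι G.hom t).symm ▸ hxt
    rw [mem_neutralSet_iff, hxt, GrpSchLib.Neutral.connectedComponentIn_eq]
    exact ⟨y, hOe.le hxO, rfl⟩

omit [LfpNearUnit G] in
/-- The geometric neutral component is irreducible. -/
theorem isIrreducible_preimage_neutralSet (t : S) (L : Type u) [Field L] (a : S.residueField t →+* L) :
    IsIrreducible (pullback.fst G.hom (Spec.map (CommRingCat.ofHom a) ≫ S.fromSpecResidueField t) ⁻¹'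
      SGA3x.neutralSet G) := by
  obtain ⟨c, hc, hce⟩ := exists_isMaxPt (η[fib G t].left (IsLocalRing.closedPoint (S.residueField t)))
  obtain ⟨T, j, hj, hjr⟩ := exists_over_range_eq (closure {c}) isClosed_closure
  have := irreducibleSpace_of_range j (hjr ▸ isIrreducible_singleton.closure)
  have := geometricallyIrreducible_one hc hce j hjr
  let x := Spec.map (CommRingCat.ofHom a)
  haveI : IrreducibleSpace ↥(pullback T.hom x) :=
    GeometricallyIrreducible.geometrically_irreducibleSpace (f := T.hom) _ _ _ (.of_hasPullback _ _)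
  let m : pullback T.hom x ⟶ pullback (fib G t).hom x :=
    pullback.map T.hom x (fib G t).hom x j.left (𝟙 _) (𝟙 _) (by rw [Category.comp_id, Over.w j]) (by simp)
  let e := pullbackLeftPullbackSndIso G.hom (S.fromSpecResidueField t) x
  let π := pullback.fst G.hom (S.fromSpecResidueField t)
  have hr : pullback.fst G.hom (x ≫ S.fromSpecResidueField t) ⁻¹' SGA3x.neutralSet G = Set.range (m ≫ e.hom) := by
    have hm : Set.range m = pullback.fst (fib G t).hom x ⁻¹' closure {c} := by
      rw [← hjr]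
      refine (Scheme.Pullback.range_map _ _ _ _ _ _ _ _ _).trans ?_
      simp
    have he : ∀ y, pullback.fst G.hom (x ≫ S.fromSpecResidueField t) (e.hom y) =
        π (pullback.fst (fib G t).hom x y) := fun y => by
      rw [← Scheme.Hom.comp_apply, pullbackLeftPullbackSndIso_hom_fst, Scheme.Hom.comp_apply]
      rfl
    have hmem : ∀ y : (fib G t).left, π y ∈ SGA3x.neutralSet G ↔ y ∈ closure {c} := by
      intro y
      have hy : G.hom (π y) = t := by
        have : π y ∈ Set.range π := ⟨y, rfl⟩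
        rwa [show Set.range π = G.hom ⁻¹' {t} from Scheme.Hom.range_fiberι G.hom t] at this
      rw [mem_neutralSet_iff, hy, connectedComponentIn_eq, ← connectedComponent_one hc hce]
      exact (G.hom.fiberι t).isEmbedding.injective.mem_set_image
    ext y
    obtain ⟨y, rfl⟩ : ∃ z, e.hom z = y := e.hom.surjective y
    rw [Set.mem_preimage]
    rw [he, hmem, Scheme.Hom.comp_base, TopCat.coe_comp, Set.range_comp,
      e.hom.isOpenEmbedding.injective.mem_set_image, hm]
    rfl
  rw [hr, ← Set.image_univ]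
  exact (IrreducibleSpace.isIrreducible_univ _).image _ (m ≫ e.hom).continuous.continuousOn

variable {G} {V : S.Opens} (hV : IsAffineOpen V) {W : G.left.Opens} (hW : IsAffineOpen W) (hWV : W ≤ G.hom ⁻¹ᵁ V)

/-- The primes of an affine open of the base at which the geometric fibre of an affine open is irreducible. -/
def chartLocus : Set (Spec Γ(S, V)) :=
  letI := (G.hom.appLE V W hWV).hom.toAlgebra
  locus Γ(S, V) Γ(G.left, W)

omit [GrpObj G] [LfpNearUnit G] in
theorem isConstructible_chartLocus (hfp : (G.hom.appLE V W hWV).hom.FinitePresentation) :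
    Topology.IsConstructible (chartLocus hWV) := by
  letI := (G.hom.appLE V W hWV).hom.toAlgebra
  haveI : Algebra.FinitePresentation Γ(S, V) Γ(G.left, W) := hfp
  exact isConstructible_locus Γ(S, V) Γ(G.left, W)

omit [GrpObj G] [LfpNearUnit G] in
include hV hW in
theorem mem_chartLocus_iff (hfp : (G.hom.appLE V W hWV).hom.FinitePresentation) (p : Spec Γ(S, V)) (L : Type u) [Field L] [IsAlgClosed L]
    (ρ : Γ(S, V) ⟶ CommRingCat.of L) (hρ : RingHom.ker ρ.hom = p.asIdeal) :
    p ∈ chartLocus hWV ↔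
      IrreducibleSpace ↥(pullback (hW.fromSpec ≫ G.hom) (Spec.map ρ ≫ hV.fromSpec)) := by
  letI := (G.hom.appLE V W hWV).hom.toAlgebra
  haveI : Algebra.FinitePresentation Γ(S, V) Γ(G.left, W) := hfp
  letI : Algebra Γ(S, V) L := ρ.hom.toAlgebra
  let a := Spec.map (CommRingCat.ofHom (algebraMap Γ(S, V) Γ(G.left, W)))
  let b := Spec.map (CommRingCat.ofHom (algebraMap Γ(S, V) L))
  have ha : hW.fromSpec ≫ G.hom = a ≫ hV.fromSpec := (hV.SpecMap_appLE_fromSpec G.hom hW hWV).symm
  have hb : Spec.map ρ = b := rfl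
  let e : pullback (hW.fromSpec ≫ G.hom) (Spec.map ρ ≫ hV.fromSpec) ≅ pullback a b :=
    { hom := pullback.lift (pullback.fst _ _) (pullback.snd _ _) (by
        rw [← cancel_mono hV.fromSpec, Category.assoc, Category.assoc, ← ha, ← hb, pullback.condition])
      inv := pullback.lift (pullback.fst _ _) (pullback.snd _ _) (by
        rw [ha, hb, pullback.condition_assoc])
      hom_inv_id := by
        apply pullback.hom_ext
        · exact (Category.assoc _ _ _).trans ((congrArg (_ ≫ ·) (pullback.lift_fst _ _ _)).trans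
            ((pullback.lift_fst _ _ _).trans (Category.id_comp _).symm))
        · exact (Category.assoc _ _ _).trans ((congrArg (_ ≫ ·) (pullback.lift_snd _ _ _)).trans
            ((pullback.lift_snd _ _ _).trans (Category.id_comp _).symm))
      inv_hom_id := by
        apply pullback.hom_ext
        · exact (Category.assoc _ _ _).trans ((congrArg (_ ≫ ·) (pullback.lift_fst _ _ _)).trans
            ((pullback.lift_fst _ _ _).trans (Category.id_comp _).symm))
        · exact (Category.assoc _ _ _).trans ((congrArg (_ ≫ ·) (pullback.lift_snd _ _ _)).trans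
            ((pullback.lift_snd _ _ _).trans (Category.id_comp _).symm)) }
  haveI : IsIso e.hom := Iso.isIso_hom e
  rw [e.hom.homeomorph.irreducibleSpace_iff,
    (pullbackSpecIso Γ(S, V) Γ(G.left, W) L).hom.homeomorph.irreducibleSpace_iff]
  refine (mem_locus_iff (R := Γ(S, V)) (A := Γ(G.left, W)) p L hρ).trans ?_
  refine Iff.trans ⟨isPrime_nilradical_of_ringEquiv (Algebra.TensorProduct.comm _ _ _).toRingEquiv,
    isPrime_nilradical_of_ringEquiv (Algebra.TensorProduct.comm _ _ _).toRingEquiv⟩ ?_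
  exact PrimeSpectrum.irreducibleSpace_iff_isPrime_nilradical.symm

include hV in
theorem range_geomPt (p : Spec Γ(S, V)) (L : Type u) [Field L] (ρ : Γ(S, V) ⟶ CommRingCat.of L)
    (hρ : RingHom.ker ρ.hom = p.asIdeal) :
    Set.range (Spec.map ρ ≫ hV.fromSpec) = {hV.fromSpec p} := by
  have h : Spec.map ρ (IsLocalRing.closedPoint L) = p := PrimeSpectrum.ext (by
    show (IsLocalRing.maximalIdeal L).comap ρ.hom = p.asIdeal
    rw [IsLocalRing.maximalIdeal_eq_bot, ← RingHom.ker_eq_comap_bot, hρ])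
  refine Set.Subset.antisymm ?_ (Set.singleton_subset_iff.mpr ⟨IsLocalRing.closedPoint L, ?_⟩)
  · rintro _ ⟨y, rfl⟩
    rw [Subsingleton.elim y (IsLocalRing.closedPoint L), Scheme.Hom.comp_apply, h]
    rfl
  · rw [Scheme.Hom.comp_apply, h]

omit [LfpNearUnit G] in
include hV hW in
theorem range_fst_fromSpec (p : Spec Γ(S, V)) (L : Type u) [Field L] (ρ : Γ(S, V) ⟶ CommRingCat.of L)
    (hρ : RingHom.ker ρ.hom = p.asIdeal) :
    Set.range (pullback.fst (hW.fromSpec ≫ G.hom) (Spec.map ρ ≫ hV.fromSpec) ≫ hW.fromSpec) =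
      (W : Set G.left) ∩ G.hom ⁻¹' {hV.fromSpec p} := by
  rw [Scheme.Hom.comp_base, TopCat.coe_comp, Set.range_comp, Scheme.Pullback.range_fst, range_geomPt hV p L ρ hρ,
    Scheme.Hom.comp_base, TopCat.coe_comp, Set.preimage_comp, Set.image_preimage_eq_inter_range,
    hW.range_fromSpec, Set.inter_comm]

include hW in
/-- The fibre of a chart lies in the neutral component. -/
theorem inter_fibre_subset (hfp : (G.hom.appLE V W hWV).hom.FinitePresentation) (p : Spec Γ(S, V)) (hp : p ∈ chartLocus hWV) (hu : unit G (hV.fromSpec p) ∈ W) :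
    (W : Set G.left) ∩ G.hom ⁻¹' {hV.fromSpec p} ⊆ SGA3x.neutralSet G := by
  let L := AlgebraicClosure p.asIdeal.ResidueField
  let ρ : Γ(S, V) ⟶ CommRingCat.of L := CommRingCat.ofHom (algebraMap Γ(S, V) L)
  have hρ : RingHom.ker ρ.hom = p.asIdeal := ker_algebraMap_algebraicClosure p.asIdeal
  haveI := (mem_chartLocus_iff hV hW hWV hfp p L ρ hρ).mp hp
  have hirr : IsIrreducible ((W : Set G.left) ∩ G.hom ⁻¹' {hV.fromSpec p}) := by
    rw [← range_fst_fromSpec hV hW p L ρ hρ, ← Set.image_univ]
    exact (IrreducibleSpace.isIrreducible_univ _).image _ (Scheme.Hom.continuous _).continuousOn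
  intro x hx
  rw [mem_neutralSet_iff, show G.hom x = hV.fromSpec p from hx.2]
  exact hirr.isPreirreducible.isPreconnected.subset_connectedComponentIn ⟨hu, hom_unit G _⟩
    Set.inter_subset_right hx

include hW in
theorem mem_chartLocus (hfp : (G.hom.appLE V W hWV).hom.FinitePresentation) (p : Spec Γ(S, V)) (hu : unit G (hV.fromSpec p) ∈ W)
    (hsub : (W : Set G.left) ∩ G.hom ⁻¹' {hV.fromSpec p} ⊆ SGA3x.neutralSet G) : p ∈ chartLocus hWV := by
  let t := hV.fromSpec p
  let L := AlgebraicClosure (S.residueField t)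
  let a : S.residueField t →+* L := algebraMap _ L
  let g := Spec.map (CommRingCat.ofHom a) ≫ S.fromSpecResidueField t
  have hg : Set.range g = {t} := by
    rw [Scheme.Hom.comp_base, TopCat.coe_comp, Set.range_comp,
      Set.range_eq_univ.mpr (Function.surjective_to_subsingleton (α := Spec (CommRingCat.of L))
        (β := Spec (CommRingCat.of (S.residueField t))) _),
      Set.image_univ, Scheme.range_fromSpecResidueField]
  have hgV : Set.range g ⊆ Set.range hV.fromSpec := by rw [hg]; exact Set.singleton_subset_iff.mpr ⟨p, rfl⟩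
  obtain ⟨ρ, hρ⟩ := Spec.map_surjective (IsOpenImmersion.lift hV.fromSpec g hgV)
  have hρg : Spec.map ρ ≫ hV.fromSpec = g := by rw [hρ, IsOpenImmersion.lift_fac]
  have hker : RingHom.ker ρ.hom = p.asIdeal := by
    have h : Spec.map ρ (IsLocalRing.closedPoint L) = p := hV.fromSpec.isOpenEmbedding.injective (by
      rw [← Scheme.Hom.comp_apply, hρg]
      exact hg.le ⟨_, rfl⟩)
    rw [← h]
    show _ = (IsLocalRing.maximalIdeal L).comap ρ.hom
    rw [IsLocalRing.maximalIdeal_eq_bot, RingHom.ker_eq_comap_bot]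
  rw [mem_chartLocus_iff hV hW hWV hfp p L ρ hker, hρg]
  have hC := isIrreducible_preimage_neutralSet G t L a
  let k := (pullbackRightPullbackFstIso G.hom g hW.fromSpec).inv ≫ pullback.snd _ _
  haveI : IsOpenImmersion k := inferInstance
  have hrk : Set.range k = pullback.fst G.hom g ⁻¹' (W : Set G.left) := by
    rw [Scheme.Hom.comp_base, TopCat.coe_comp, Set.range_comp,
      Set.range_eq_univ.mpr (pullbackRightPullbackFstIso G.hom g hW.fromSpec).inv.surjective,
      Set.image_univ, Scheme.Pullback.range_snd, hW.range_fromSpec]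
  have hk : Set.range k ⊆ pullback.fst G.hom g ⁻¹' SGA3x.neutralSet G := by
    rw [hrk]
    refine fun y hy => hsub ⟨hy, ?_⟩
    show G.hom (pullback.fst G.hom g y) = t
    rw [← Scheme.Hom.comp_apply, pullback.condition, Scheme.Hom.comp_apply]
    exact hg.le ⟨_, rfl⟩
  obtain ⟨y, hy⟩ : unit G t ∈ Set.range (pullback.fst G.hom g) := by
    rw [Scheme.Pullback.range_fst, hg]
    exact hom_unit G t
  have hne : (Set.range k).Nonempty := ⟨y, by rw [hrk, Set.mem_preimage, hy]; exact hu⟩
  haveI : Nonempty ↥(pullback (hW.fromSpec ≫ G.hom) g) := by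
    obtain ⟨_, z, rfl⟩ := hne
    exact ⟨z⟩
  have hpre := (hC.isPreirreducible.open_subset k.isOpenEmbedding.isOpen_range hk).preimage k.isOpenEmbedding
  rw [Set.preimage_range] at hpre
  exact { isPreirreducible_univ := hpre, toNonempty := inferInstance }

omit [GrpObj G] [LfpNearUnit G] in
include hV hW in
theorem finitePresentation_appLE [LocallyOfFinitePresentation (W.ι ≫ G.hom)] :
    (G.hom.appLE V W hWV).hom.FinitePresentation := by
  have h : LocallyOfFinitePresentation (Spec.map (G.hom.appLE V W hWV) ≫ hV.fromSpec) := by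
    rw [hV.SpecMap_appLE_fromSpec G.hom hW hWV, show hW.fromSpec = hW.isoSpec.inv ≫ W.ι from rfl, Category.assoc]
    infer_instance
  exact (HasRingHomProperty.Spec_iff (P := @LocallyOfFinitePresentation)).mp
    (MorphismProperty.of_postcomp (W' := @IsOpenImmersion) @LocallyOfFinitePresentation _ hV.fromSpec inferInstance h)

variable (G) in
/-- A chart for the neutral components over an affine open of the base. -/
structure Chart (V : S.Opens) where
  W : G.left.Opens
  isAffineOpen : IsAffineOpen W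
  le : W ≤ G.hom ⁻¹ᵁ V
  g : Γ(S, V)
  fp : (G.hom.appLE V W le).hom.FinitePresentation

variable (c : Chart G V)

/-- The basic open of a chart. -/
def Chart.base : (Spec Γ(S, V)).Opens := PrimeSpectrum.basicOpen c.g

/-- The points of the base at which the chart computes the neutral component. -/
def Chart.good : Set (Spec Γ(S, V)) :=
  chartLocus c.le ∩ (c.base : Set (Spec Γ(S, V)))

/-- The morphism from the product of a chart with itself. -/
noncomputable def Chart.mul : pullback (Spec.map (G.hom.appLE V c.W c.le)) (Spec.map (G.hom.appLE V c.W c.le)) ⟶ G.left :=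
  pullback.map _ _ G.hom G.hom c.isAffineOpen.fromSpec c.isAffineOpen.fromSpec hV.fromSpec
    (hV.SpecMap_appLE_fromSpec G.hom c.isAffineOpen c.le) (hV.SpecMap_appLE_fromSpec G.hom c.isAffineOpen c.le) ≫ μ[G].left

/-- The projection of the product of a chart with itself to the base. -/
noncomputable def Chart.proj :
    pullback (Spec.map (G.hom.appLE V c.W c.le)) (Spec.map (G.hom.appLE V c.W c.le)) ⟶ Spec Γ(S, V) :=
  pullback.fst _ _ ≫ Spec.map (G.hom.appLE V c.W c.le)

omit [LfpNearUnit G] in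
theorem Chart.mul_hom : c.mul hV ≫ G.hom = c.proj ≫ hV.fromSpec := by
  rw [Chart.mul, Category.assoc, Over.w μ[G], show (G ⊗ G).hom = pullback.fst G.hom G.hom ≫ G.hom from rfl,
    Chart.proj, Category.assoc, hV.SpecMap_appLE_fromSpec G.hom c.isAffineOpen c.le]
  exact pullback.lift_fst_assoc _ _ _ _

include hV in
theorem isConstructible_good : Topology.IsConstructible c.good :=
  (isConstructible_chartLocus c.le c.fp).inter
    ((PrimeSpectrum.isCompact_basicOpen c.g).isConstructible c.base.isOpen)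

/-- A chart whose basic open is sent into the chart by the unit section. -/
abbrev Chart.Valid : Prop :=
  ∀ p ∈ (c.base : Set (Spec Γ(S, V))), unit G (hV.fromSpec p) ∈ c.W

variable {c}

/-- The products of the points of a chart lie in the neutral components. -/
theorem Chart.Valid.mul_mem (hc : c.Valid hV) {q} (hq : c.proj q ∈ c.good) :
    c.mul hV q ∈ SGA3x.neutralSet G := by
  let m := pullback.map _ _ G.hom G.hom c.isAffineOpen.fromSpec c.isAffineOpen.fromSpec hV.fromSpec
    (hV.SpecMap_appLE_fromSpec G.hom c.isAffineOpen c.le) (hV.SpecMap_appLE_fromSpec G.hom c.isAffineOpen c.le)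
  have hm : m q ∈ (fst G G).left ⁻¹' (c.W : Set G.left) ∩ (snd G G).left ⁻¹' (c.W : Set G.left) := by
    have h : m q ∈ Set.range m := ⟨q, rfl⟩
    rw [Scheme.Pullback.range_map] at h
    rw [← c.isAffineOpen.range_fromSpec]
    exact h
  have ht : (G ⊗ G).hom (m q) = hV.fromSpec (c.proj q) := by
    rw [← Scheme.Hom.comp_apply, ← Scheme.Hom.comp_apply, ← Chart.mul_hom hV c, Chart.mul, Category.assoc, Over.w μ[G]]
  have hsub := inter_fibre_subset hV c.isAffineOpen c.le c.fp _ hq.1 (hc _ hq.2)
  refine mul_mem_neutralSet G (p := m q) (hsub ⟨hm.1, ?_⟩) (hsub ⟨hm.2, ?_⟩)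
  · exact (congrArg (fun f : (G ⊗ G).left ⟶ S => f (m q)) (Over.w (fst G G))).trans ht
  · exact (congrArg (fun f : (G ⊗ G).left ⟶ S => f (m q)) (Over.w (snd G G))).trans ht

/-- Every point of a neutral component over the open is a product of points of a chart. -/
theorem Chart.Valid.exists_mul (hc : c.Valid hV) {x : G.left} (hx : x ∈ SGA3x.neutralSet G) (p : Spec Γ(S, V))
    (hp : p ∈ c.good) (hxp : G.hom x = hV.fromSpec p) : ∃ q, c.proj q = p ∧ c.mul hV q = x := by
  obtain ⟨r, hr1, hr2, hr⟩ := Neutral.exists_mul G hx c.W (hxp ▸ hc p hp.2)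
  obtain ⟨q, hq⟩ : r ∈ Set.range (pullback.map _ _ G.hom G.hom c.isAffineOpen.fromSpec c.isAffineOpen.fromSpec hV.fromSpec
      (hV.SpecMap_appLE_fromSpec G.hom c.isAffineOpen c.le) (hV.SpecMap_appLE_fromSpec G.hom c.isAffineOpen c.le)) := by
    rw [Scheme.Pullback.range_map, c.isAffineOpen.range_fromSpec]
    exact ⟨hr1, hr2⟩
  have hmx : c.mul hV q = x := by rw [Chart.mul, Scheme.Hom.comp_apply, hq, hr]
  refine ⟨q, hV.fromSpec.isOpenEmbedding.injective ?_, hmx⟩
  rw [← Scheme.Hom.comp_apply, ← Chart.mul_hom hV c, Scheme.Hom.comp_apply, hmx, hxp]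

variable (G) in
theorem exists_chart (p : Spec Γ(S, V)) : ∃ c : Chart G V, c.Valid hV ∧ p ∈ c.good := by
  obtain ⟨O, hO, hsub, hlfp⟩ := exists_open_unit G (hV.fromSpec p)
  have hpV : hV.fromSpec p ∈ V := hV.range_fromSpec.le ⟨p, rfl⟩
  obtain ⟨W, hW, hWu, hWle⟩ := exists_isAffineOpen_mem_and_subset
    (show unit G (hV.fromSpec p) ∈ O ⊓ G.hom ⁻¹ᵁ V from
      ⟨hO, by show G.hom (unit G _) ∈ V; rwa [hom_unit]⟩)
  obtain ⟨_, ⟨g, rfl⟩, hpg, hgW⟩ := PrimeSpectrum.isTopologicalBasis_basic_opens.exists_subset_of_mem_open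
    (show p ∈ hV.fromSpec ⁻¹' (unit G ⁻¹' (W : Set G.left)) from hWu)
    ((W.isOpen.preimage (unit G).continuous).preimage hV.fromSpec.continuous)
  have hWV : W ≤ G.hom ⁻¹ᵁ V := fun z hz => (hWle hz).2
  haveI : LocallyOfFinitePresentation (W.ι ≫ G.hom) := by
    haveI := hlfp
    rw [show W.ι ≫ G.hom = G.left.homOfLE (fun z hz => (hWle hz).1 : W ≤ O) ≫ O.ι ≫ G.hom by
      rw [Scheme.homOfLE_ι_assoc]]
    infer_instance
  exact ⟨⟨W, hW, hWV, g, finitePresentation_appLE hV hW hWV⟩, fun q hq => hgW hq,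
    mem_chartLocus hV hW _ (finitePresentation_appLE hV hW hWV) p hWu
      fun z hz => hsub ⟨(hWle hz.1).1, hz.2⟩, hpg⟩

include hV in
variable (G) in
theorem exists_finite_charts : ∃ t : Set (Chart G V), t.Finite ∧ (∀ c ∈ t, c.Valid hV) ∧
    ∀ p, ∃ c ∈ t, p ∈ c.good := by
  choose c hc hpc using exists_chart G hV
  have hopen : ∀ p, IsOpen[constructibleTopology (Spec Γ(S, V))] (c p).good := fun p => by
    have h : IsClosed[constructibleTopology (Spec Γ(S, V))] (c p).goodᶜ :=
      ProConsLib.consClosed_of_isConstructible (isConstructible_good hV (c p)).compl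
    exact (@isClosed_compl_iff _ (constructibleTopology _) _).mp h
  have hcomp : @IsCompact (Spec Γ(S, V)) (constructibleTopology _) Set.univ :=
    @isCompact_univ _ (constructibleTopology _) ProConsLib.compactSpace_cons
  obtain ⟨t, ht⟩ := @IsCompact.elim_finite_subcover _ (constructibleTopology _) _ _ hcomp
    (fun p => (c p).good) hopen fun p _ => Set.mem_iUnion.mpr ⟨p, hpc p⟩
  refine ⟨c '' (t : Set _), t.finite_toSet.image c, by rintro _ ⟨p, -, rfl⟩; exact hc p, fun q => ?_⟩
  obtain ⟨p, hp, hq⟩ := Set.mem_iUnion₂.mp (ht (Set.mem_univ q))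
  exact ⟨c p, ⟨p, hp, rfl⟩, hq⟩

/-- The image in an affine open of the good part of an affine open of the product of a chart. -/
theorem isConstructible_piece {U : G.left.Opens} (hU : IsAffineOpen U) [LocallyOfFiniteType (U.ι ≫ G.hom)]
    {O : (pullback (Spec.map (G.hom.appLE V c.W c.le)) (Spec.map (G.hom.appLE V c.W c.le))).Opens}
    (hO : IsAffineOpen O) (hle : O ≤ c.mul hV ⁻¹ᵁ U) :
    Topology.IsConstructible ((c.mul hV).resLE U O hle '' ((O.ι ≫ c.proj) ⁻¹' c.good)) := by
  haveI : IsAffine (U : Scheme.{u}) := hU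
  haveI : IsAffine (O : Scheme.{u}) := hO
  let k := (c.mul hV).resLE U O hle
  haveI : IsAffineHom k := isAffineHom_of_isAffine _
  haveI : LocallyOfFinitePresentation (Spec.map (G.hom.appLE V c.W c.le)) :=
    (HasRingHomProperty.Spec_iff (P := @LocallyOfFinitePresentation)).mpr
      c.fp
  haveI : LocallyOfFinitePresentation (k ≫ U.ι ≫ G.hom) := by
    rw [Scheme.Hom.resLE_comp_ι_assoc, Chart.mul_hom hV c, Chart.proj]
    infer_instance
  haveI : LocallyOfFinitePresentation k := Groth.Agent.S12442.result k (U.ι ≫ G.hom)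
  exact k.isConstructible_image ((O.ι ≫ c.proj).isConstructible_preimage (isConstructible_good hV c))

include hV in
variable (G) in
/-- The neutral components are a union of constructible sets on an affine open. -/
theorem exists_constructible_pieces {U : G.left.Opens} (hU : IsAffineOpen U) (hUV : U ≤ G.hom ⁻¹ᵁ V)
    [LocallyOfFiniteType (U.ι ≫ G.hom)] :
    ∃ T : Set (Set (U : Set G.left)), (∀ E ∈ T, Topology.IsConstructible E) ∧
      (Subtype.val ⁻¹' SGA3x.neutralSet G : Set (U : Set G.left)) = ⋃₀ T ∧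
      (QuasiSeparated G.hom → T.Finite) := by
  classical
  obtain ⟨t, htf, htv, htc⟩ := exists_finite_charts G hV
  have hcov : ∀ c : Chart G V, ∃ s : Set (pullback (Spec.map (G.hom.appLE V c.W c.le))
      (Spec.map (G.hom.appLE V c.W c.le))).Opens,
      (∀ O ∈ s, IsAffineOpen O ∧ O ≤ c.mul hV ⁻¹ᵁ U) ∧
      (∀ q, c.mul hV q ∈ U → ∃ O ∈ s, q ∈ O) ∧ (QuasiSeparated G.hom → s.Finite) := by
    intro c
    by_cases hqs : QuasiSeparated G.hom
    · haveI := hqs
      haveI : IsAffine (V : Scheme.{u}) := hV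
      haveI : QuasiSeparatedSpace ((G.hom ⁻¹ᵁ V : G.left.Opens) : Scheme.{u}) :=
        quasiSeparatedSpace_of_quasiSeparated (G.hom ∣_ V)
      have hr : Set.range (c.mul hV) ⊆ Set.range (G.hom ⁻¹ᵁ V).ι := by
        rw [Scheme.Opens.range_ι]
        rintro _ ⟨q, rfl⟩
        show G.hom (c.mul hV q) ∈ V
        rw [← Scheme.Hom.comp_apply, Chart.mul_hom, Scheme.Hom.comp_apply]
        exact hV.range_fromSpec.le ⟨_, rfl⟩
      let m := IsOpenImmersion.lift (G.hom ⁻¹ᵁ V).ι (c.mul hV) hr
      have hm : c.mul hV = m ≫ (G.hom ⁻¹ᵁ V).ι := (IsOpenImmersion.lift_fac _ _ _).symm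
      have hcp : IsCompact (c.mul hV ⁻¹' (U : Set G.left)) := by
        have h : IsCompact (((G.hom ⁻¹ᵁ V).ι ⁻¹ᵁ U : TopologicalSpace.Opens _).carrier) :=
          ((G.hom ⁻¹ᵁ V).ι.isOpenEmbedding.isInducing.isCompact_preimage_iff
            (by rw [Scheme.Opens.range_ι]; exact hUV)).mpr hU.isCompact
        rw [hm]
        exact m.isCompact_preimage h
      choose O hO hqO hOle using fun q : {q // c.mul hV q ∈ U} =>
        exists_isAffineOpen_mem_and_subset (show q.1 ∈ c.mul hV ⁻¹ᵁ U from q.2)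
      obtain ⟨s, hs⟩ := hcp.elim_finite_subcover (fun q => ((O q : TopologicalSpace.Opens _) : Set (pullback (Spec.map (G.hom.appLE V c.W c.le))
        (Spec.map (G.hom.appLE V c.W c.le)) : Scheme.{u}))) (fun q => (O q).isOpen)
        fun q hq => Set.mem_iUnion.mpr ⟨⟨q, hq⟩, hqO ⟨q, hq⟩⟩
      refine ⟨O '' (s : Set _), ?_, fun q hq => ?_, fun _ => s.finite_toSet.image O⟩
      · rintro _ ⟨q, -, rfl⟩
        exact ⟨hO q, hOle q⟩
      · obtain ⟨q', hq', hqq⟩ := Set.mem_iUnion₂.mp (hs hq)
        exact ⟨O q', ⟨q', hq', rfl⟩, hqq⟩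
    · refine ⟨{O | IsAffineOpen O ∧ O ≤ c.mul hV ⁻¹ᵁ U}, fun O hO => hO, fun q hq => ?_, fun h => absurd h hqs⟩
      obtain ⟨O, hO, hqO, hle⟩ := exists_isAffineOpen_mem_and_subset (show q ∈ c.mul hV ⁻¹ᵁ U from hq)
      exact ⟨O, ⟨hO, hle⟩, hqO⟩
  choose s hs1 hs2 hs3 using hcov
  let T : Set (Set (U : Set G.left)) := ⋃ c ∈ t, (fun O : {O // O ∈ s c} =>
    (c.mul hV).resLE U O.1 (hs1 c O.1 O.2).2 '' ((O.1.ι ≫ c.proj) ⁻¹' c.good)) '' Set.univ
  refine ⟨T, ?_, ?_, fun hqs => ?_⟩
  · intro E hE
    obtain ⟨c, -, O, -, rfl⟩ := Set.mem_iUnion₂.mp hE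
    exact isConstructible_piece hV hU (hs1 c O.1 O.2).1 (hs1 c O.1 O.2).2
  · have hval : ∀ (c : Chart G V) (O : _) (hle : O ≤ c.mul hV ⁻¹ᵁ U) (q : (O : Scheme.{u})),
        U.ι ((c.mul hV).resLE U O hle q) = c.mul hV (O.ι q) := by
      intro c O hle q
      rw [← Scheme.Hom.comp_apply, Scheme.Hom.resLE_comp_ι, Scheme.Hom.comp_apply]
    ext x
    constructor
    · intro hx
      obtain ⟨p, hp⟩ : G.hom x.1 ∈ Set.range hV.fromSpec := hV.range_fromSpec.symm ▸ hUV x.2
      obtain ⟨c, hc, hpc⟩ := htc p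
      obtain ⟨q, hqp, hqx⟩ := (htv c hc).exists_mul hV hx p hpc hp.symm
      obtain ⟨O, hO, hqO⟩ := hs2 c q (hqx ▸ x.2)
      refine ⟨_, Set.mem_iUnion₂.mpr ⟨c, hc, ⟨O, hO⟩, trivial, rfl⟩, ⟨q, hqO⟩, ?_, Subtype.ext ?_⟩
      · show c.proj (O.ι ⟨q, hqO⟩) ∈ c.good
        rw [show O.ι ⟨q, hqO⟩ = q from rfl, hqp]
        exact hpc
      · exact (hval c O _ ⟨q, hqO⟩).trans hqx
    · rintro ⟨E, hE, hxE⟩
      obtain ⟨c, hc, O, -, rfl⟩ := Set.mem_iUnion₂.mp hE
      obtain ⟨q, hq, rfl⟩ := hxE
      rw [Set.mem_preimage]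
      refine Eq.mpr (congrArg (· ∈ SGA3x.neutralSet G) (hval c O.1 _ q)) ?_
      exact (htv c hc).mul_mem hV hq
  · refine Set.Finite.biUnion htf fun c _ => ?_
    haveI : Finite {O // O ∈ s c} := (hs3 c hqs).to_subtype
    exact Set.finite_univ.image _

variable (G)

theorem isIndConstructible_neutralSet [LocallyOfFinitePresentation G.hom] : ProCons.IsIndConstructible (SGA3x.neutralSet G) := by
  intro x
  obtain ⟨V, hV, hxV, -⟩ := exists_isAffineOpen_mem_and_subset (show G.hom x ∈ (⊤ : S.Opens) from trivial)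
  obtain ⟨U, hU, hxU, hUV⟩ := exists_isAffineOpen_mem_and_subset (show x ∈ G.hom ⁻¹ᵁ V from hxV)
  obtain ⟨T, hT, hTe, -⟩ := exists_constructible_pieces G hV hU hUV
  exact ⟨U, U.isOpen, hxU, T, fun E hE => (hT E hE).isLocallyConstructible, hTe⟩

theorem isLocallyConstructible_neutralSet [LocallyOfFinitePresentation G.hom] [QuasiSeparated G.hom] :
    Topology.IsLocallyConstructible (SGA3x.neutralSet G) := by
  choose V hV hxV hVle using fun x : G.left =>
    exists_isAffineOpen_mem_and_subset (show G.hom x ∈ (⊤ : S.Opens) from trivial)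
  choose U hU hxU hUV using fun x : G.left =>
    exists_isAffineOpen_mem_and_subset (show x ∈ G.hom ⁻¹ᵁ V x from hxV x)
  refine .of_isOpenCover (U := U) (eq_top_iff.mpr fun x _ => Opens.mem_iSup.mpr ⟨x, hxU x⟩) fun x => ?_
  obtain ⟨T, hT, hTe, hfin⟩ := exists_constructible_pieces G (hV x) (hU x) (hUV x)
  rw [hTe]
  exact (Topology.IsConstructible.sUnion (hfin inferInstance) hT).isLocallyConstructible

theorem isConstructible_neutralSet [LocallyOfFinitePresentation G.hom] [QuasiSeparated G.hom] [CompactSpace S] [QuasiSeparatedSpace S]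
    {K : G.left.Opens} (hK : IsCompact (K : Set G.left)) (hN : SGA3x.neutralSet G ⊆ K) :
    Topology.IsConstructible (SGA3x.neutralSet G) := by
  haveI : QuasiSeparatedSpace G.left := quasiSeparatedSpace_of_quasiSeparated G.hom
  exact (isLocallyConstructible_neutralSet G).isConstructible_of_subset_of_isCompact hN hK

end Groth.Agent.GeomIrrSpread
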