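import Groth.Agent.GenFree.Basic
import Mathlib.RingTheory.Nullstellensatz
import Mathlib.RingTheory.TensorProduct.Maps
import Mathlib.RingTheory.FiniteStability
import Mathlib.RingTheory.Jacobson.Ring
import Mathlib.FieldTheory.IsAlgClosed.Basic

/-!
# Spreading out over a Noetherian domain

Whether a base change of a finitely generated algebra to an algebraically closed field is zero is decided,
near the generic point, by any one field containing the domain.
-/

universe u v

open TensorProduct

set_option autoImplicit false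

namespace Groth.Agent.GeomIrrSpread

/-- An injective map with `f`-power torsion cokernel stays injective over rings where `f` is invertible. -/
theorem lTensor_injective {R : Type*} [CommRing R] {N M Ω : Type*} [AddCommGroup N] [Module R N] [AddCommGroup M]
    [Module R M] [CommRing Ω] [Algebra R Ω] (f : R) (hf : IsUnit (algebraMap R Ω f)) (Ψ : N →ₗ[R] M)
    (hΨ : Function.Injective Ψ) (hT : ∀ m, ∃ k : ℕ, f ^ k • m ∈ LinearMap.range Ψ) :
    Function.Injective (LinearMap.lTensor Ω Ψ) := by
  obtain ⟨u, hu⟩ := hf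
  choose k hk using hT
  choose ν hν using hk
  let θ : M → Ω ⊗[R] N := fun m => ((↑(u⁻¹ ^ k m) : Ω)) ⊗ₜ[R] ν m
  have key : ∀ (m : M) (j : ℕ) (n : N), Ψ n = f ^ j • m → θ m = ((↑(u⁻¹ ^ j) : Ω)) ⊗ₜ[R] n := by
    intro m j n hn
    have h : f ^ j • ν m = f ^ k m • n := hΨ (by rw [map_smul, map_smul, hν, hn, smul_comm])
    calc θ m = ((↑(u⁻¹ ^ (k m + j)) : Ω)) ⊗ₜ[R] (f ^ j • ν m) := by
          rw [← smul_tmul, Algebra.smul_def, map_pow, ← hu]
          show ((↑(u⁻¹ ^ k m) : Ω)) ⊗ₜ[R] ν m = _
          congr 1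
          rw [← Units.val_pow_eq_pow_val, ← Units.val_mul]
          congr 1
          rw [inv_pow, inv_pow, pow_add, mul_inv_rev, mul_inv_cancel_left]
      _ = ((↑(u⁻¹ ^ (k m + j)) : Ω)) ⊗ₜ[R] (f ^ k m • n) := by rw [h]
      _ = ((↑(u⁻¹ ^ j) : Ω)) ⊗ₜ[R] n := by
          rw [← smul_tmul, Algebra.smul_def, map_pow, ← hu]
          congr 1
          rw [← Units.val_pow_eq_pow_val, ← Units.val_mul]
          congr 1
          rw [inv_pow, inv_pow, pow_add, mul_inv_rev, ← mul_assoc, mul_comm (u ^ k m), mul_assoc,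
            mul_inv_cancel, mul_one]
  let θL : M →ₗ[R] Ω ⊗[R] N :=
    { toFun := θ
      map_add' := fun a b => by
        rw [key (a + b) (k a + k b) (f ^ k b • ν a + f ^ k a • ν b) (by
            rw [map_add, map_smul, map_smul, hν, hν, ← mul_smul, ← mul_smul, ← pow_add, ← pow_add, smul_add,
              add_comm (k b)]),
          key a (k a + k b) (f ^ k b • ν a) (by rw [map_smul, hν, ← mul_smul, ← pow_add, add_comm (k b)]),
          key b (k a + k b) (f ^ k a • ν b) (by rw [map_smul, hν, ← mul_smul, ← pow_add]), tmul_add]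
      map_smul' := fun r a => by
        rw [key (r • a) (k a) (r • ν a) (by rw [map_smul, hν, smul_comm]), RingHom.id_apply, tmul_smul] }
  have hl : ∀ n, θL (Ψ n) = (1 : Ω) ⊗ₜ[R] n := fun n => by
    refine (key (Ψ n) 0 n (by rw [pow_zero, one_smul])).trans ?_
    rw [pow_zero, Units.val_one]
  refine Function.LeftInverse.injective (g := LinearMap.liftBaseChange Ω θL) fun z => ?_
  induction z using TensorProduct.induction_on with
  | zero => simp
  | tmul a n =>
    rw [LinearMap.lTensor_tmul, LinearMap.liftBaseChange_tmul, hl, smul_tmul', smul_eq_mul, mul_one]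
  | add p q hp hq => simp only [map_add, hp, hq]

/-- Near the generic point, nonvanishing of a base change to a field is decided by one field. -/
theorem exists_nontrivial_iff {R : Type u} [CommRing R] [IsDomain R] [IsNoetherianRing R] (T : Type v) [CommRing T]
    [Algebra R T] [Algebra.FiniteType R T] (K : Type u) [Field K] [Algebra R K]
    (hK : Function.Injective (algebraMap R K)) :
    ∃ f : R, f ≠ 0 ∧ ∀ (Ω : Type u) [Field Ω] [Algebra R Ω], algebraMap R Ω f ≠ 0 →
      (Nontrivial (Ω ⊗[R] T) ↔ Nontrivial (K ⊗[R] T)) := by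
  obtain ⟨n, π, hπ⟩ := Algebra.FiniteType.iff_quotient_mvPolynomial''.mp (inferInstance : Algebra.FiniteType R T)
  letI : Algebra (MvPolynomial (Fin n) R) T := π.toRingHom.toAlgebra
  haveI : IsScalarTower R (MvPolynomial (Fin n) R) T := IsScalarTower.of_algebraMap_eq fun r => (π.commutes r).symm
  haveI : Module.Finite (MvPolynomial (Fin n) R) T := Module.Finite.of_surjective (Algebra.linearMap _ T) hπ
  obtain ⟨f, hf, ι, φ, hφ, hT⟩ := GenFree.exists_gfree_mvPolynomial (R := R) n T
  have main : ∀ (Ω : Type u) [Field Ω] [Algebra R Ω], algebraMap R Ω f ≠ 0 →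
      (Nontrivial (Ω ⊗[R] T) ↔ Nonempty ι) := by
    intro Ω _ _ hΩ
    constructor
    · intro h
      by_contra hι
      rw [not_nonempty_iff] at hι
      obtain ⟨k, c, hc⟩ := hT 1
      rw [Subsingleton.elim c 0, map_zero] at hc
      refine one_ne_zero (α := Ω ⊗[R] T) ?_
      have h2 : (algebraMap R Ω (f ^ k)) ⊗ₜ[R] (1 : T) = (0 : Ω ⊗[R] T) := by
        rw [Algebra.algebraMap_eq_smul_one, smul_tmul, ← hc, tmul_zero]
      rw [Algebra.TensorProduct.one_def]
      have h3 := congrArg (fun z => (algebraMap R Ω (f ^ k))⁻¹ • z) h2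
      simp only [smul_tmul', smul_eq_mul, smul_zero] at h3
      rwa [inv_mul_cancel₀ (by rw [map_pow]; exact pow_ne_zero _ hΩ)] at h3
    · rintro ⟨i⟩
      have hinj := lTensor_injective (Ω := Ω) f (isUnit_iff_ne_zero.mpr hΩ) φ hφ hT
      haveI : Nontrivial (Ω ⊗[R] (ι →₀ R)) := by
        classical
        haveI : Nonempty ι := ⟨i⟩
        haveI : Nontrivial (ι →₀ Ω) := inferInstance
        exact (TensorProduct.finsuppScalarRight R R Ω ι).toEquiv.nontrivial
      exact hinj.nontrivial
  exact ⟨f, hf, fun Ω _ _ hΩ => (main Ω hΩ).trans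
    (main K ((map_ne_zero_iff _ hK).mpr hf)).symm⟩

/-- Rational points of nonzero algebras of finite type over an algebraically closed field. -/
theorem exists_point {R : Type*} [CommRing R] {T : Type*} [CommRing T] [Algebra R T] [Algebra.FiniteType R T]
    {Ω : Type*} [Field Ω] [IsAlgClosed Ω] [Algebra R Ω] [Nontrivial (Ω ⊗[R] T)] :
    Nonempty (T →ₐ[R] Ω) := by
  obtain ⟨m, hm⟩ := Ideal.exists_maximal (Ω ⊗[R] T)
  letI := Ideal.Quotient.field m
  haveI : Algebra.FiniteType Ω ((Ω ⊗[R] T) ⧸ m) :=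
    Algebra.FiniteType.of_surjective (Ideal.Quotient.mkₐ Ω m) Ideal.Quotient.mk_surjective
  haveI : Module.Finite Ω ((Ω ⊗[R] T) ⧸ m) := finite_of_finite_type_of_isJacobsonRing _ _
  haveI : Algebra.IsIntegral Ω ((Ω ⊗[R] T) ⧸ m) := Algebra.IsIntegral.of_finite Ω _
  let e := AlgEquiv.ofBijective (Algebra.ofId Ω ((Ω ⊗[R] T) ⧸ m))
    (IsAlgClosed.algebraMap_bijective_of_isIntegral)
  exact ⟨((e.symm.toAlgHom.restrictScalars R).comp ((Ideal.Quotient.mkₐ Ω m).restrictScalars R)).comp
    Algebra.TensorProduct.includeRight⟩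

end Groth.Agent.GeomIrrSpread
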