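import Mathlib.FieldTheory.SeparablyGenerated
import Mathlib.FieldTheory.PrimitiveElement
import Mathlib.FieldTheory.Perfect
import Mathlib.FieldTheory.IsAlgClosed.Basic
import Mathlib.RingTheory.AlgebraicIndependent.TranscendenceBasis
import Mathlib.RingTheory.AlgebraicIndependent.Transcendental
import Mathlib.RingTheory.Polynomial.GaussLemma
import Mathlib.RingTheory.Polynomial.UniqueFactorization
import Mathlib.Algebra.MvPolynomial.Equiv
import Mathlib.RingTheory.PrincipalIdealDomain

/-!
# A finitely generated extension of a perfect field is the function field of a hypersurface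
-/

open MvPolynomial

set_option autoImplicit false

namespace Groth.Agent.GeomIrrSpread

/-- An irreducible polynomial over a factorial domain divides everything vanishing where it vanishes. -/
theorem dvd_of_eval₂_eq_zero {S L : Type*} [CommRing S] [IsDomain S] [IsGCDMonoid S] [Field L] (φ : S →+* L)
    (hφ : Function.Injective φ) {α : L} {p q : Polynomial S} (hp : Irreducible p) (hp0 : p.eval₂ φ α = 0)
    (hq0 : q.eval₂ φ α = 0) : p ∣ q := by
  have hdeg : p.natDegree ≠ 0 := by
    intro h0
    rw [Polynomial.eq_C_of_natDegree_eq_zero h0, Polynomial.eval₂_C, map_eq_zero_iff φ hφ] at hp0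
    exact hp.ne_zero (by rw [Polynomial.eq_C_of_natDegree_eq_zero h0, hp0, map_zero])
  have hprim : p.IsPrimitive := hp.isPrimitive hdeg
  let K₀ := FractionRing S
  let Φ : K₀ →+* L := IsFractionRing.lift hφ
  have hΦ : Φ.comp (algebraMap S K₀) = φ := RingHom.ext fun r => IsFractionRing.lift_algebraMap hφ r
  have hmem : ∀ r : Polynomial S, r.eval₂ φ α = 0 →
      r.map (algebraMap S K₀) ∈ RingHom.ker (Polynomial.eval₂RingHom Φ α) := by
    intro r hr
    rw [RingHom.mem_ker, Polynomial.coe_eval₂RingHom, Polynomial.eval₂_map, hΦ]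
    exact hr
  have hpK : Irreducible (p.map (algebraMap S K₀)) := hprim.irreducible_iff_irreducible_map_fraction_map.mp hp
  have hker : Ideal.span {p.map (algebraMap S K₀)} = RingHom.ker (Polynomial.eval₂RingHom Φ α) :=
    (PrincipalIdealRing.isMaximal_of_irreducible hpK).eq_of_le (RingHom.ker_ne_top _)
      ((Ideal.span_singleton_le_iff_mem _).mpr (hmem p hp0))
  have hq := hmem q hq0
  rw [← hker, Ideal.mem_span_singleton, ← hprim.dvd_iff_fraction_map_dvd_fraction_map K₀] at hq
  exact hq

/-- A finitely generated extension of a perfect field is the function field of a hypersurface. -/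
theorem exists_hypersurface (k L : Type*) [Field k] [Field L] [Algebra k L] [PerfectField k]
    [Algebra.EssFiniteType k L] :
    ∃ (n : ℕ) (z : Fin n → L) (F : MvPolynomial (Fin n) k), Irreducible F ∧
      RingHom.ker (aeval z : MvPolynomial (Fin n) k →ₐ[k] L) = Ideal.span {F} ∧
      IntermediateField.adjoin k (Set.range z) = ⊤ := by
  classical
  obtain ⟨s, hs, hsep⟩ := exists_isTranscendenceBasis_and_isSeparable_of_perfectField k L
  let e : Fin s.card ≃ {x // x ∈ s} := s.equivFin.symm
  let y : Fin s.card → L := fun i => (e i : L)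
  have hy : IsTranscendenceBasis k y := hs.comp_equiv e
  have hr : Set.range y = (s : Set L) := by
    ext x
    exact ⟨fun ⟨i, hi⟩ => hi ▸ (e i).2, fun hx => ⟨e.symm ⟨x, hx⟩, by simp [y]⟩⟩
  have halg : Algebra.IsAlgebraic (IntermediateField.adjoin k (s : Set L)) L := hr ▸ hy.isAlgebraic_field
  haveI : Algebra.EssFiniteType (IntermediateField.adjoin k (s : Set L)) L := Algebra.EssFiniteType.of_comp k _ L
  haveI : FiniteDimensional (IntermediateField.adjoin k (s : Set L)) L := by
    obtain ⟨t, ht⟩ := IntermediateField.fg_top (IntermediateField.adjoin k (s : Set L)) L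
    haveI := IntermediateField.finiteDimensional_adjoin (K := ↥(IntermediateField.adjoin k (s : Set L))) (L := L)
      (S := (t : Set L)) fun x _ => (halg.isAlgebraic x).isIntegral
    rw [ht] at this
    exact Module.Finite.equiv IntermediateField.topEquiv.toLinearEquiv
  obtain ⟨α, hα⟩ := Field.exists_primitive_element (IntermediateField.adjoin k (s : Set L)) L
  refine ⟨s.card + 1, Fin.cons α y, ?_⟩
  have hz : IntermediateField.adjoin k (Set.range (Fin.cons α y)) = ⊤ := by
    rw [Fin.range_cons, hr, ← Set.union_singleton, ← IntermediateField.adjoin_adjoin_left, hα,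
      IntermediateField.restrictScalars_top]
  let S := MvPolynomial (Fin s.card) k
  let φ : S →+* L := (aeval y : S →ₐ[k] L).toRingHom
  have hφ : Function.Injective φ := hy.1
  have hev : ∀ p : MvPolynomial (Fin (s.card + 1)) k,
      aeval (Fin.cons α y : Fin (s.card + 1) → L) p = (finSuccEquiv k s.card p).eval₂ φ α := by
    intro p
    induction p using MvPolynomial.induction_on with
    | C a =>
      rw [aeval_C, finSuccEquiv_apply, eval₂Hom_C, RingHom.comp_apply, Polynomial.eval₂_C]
      exact (aeval_C y a).symm
    | add p q hp hq => simp [hp, hq]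
    | mul_X p i hp =>
      rw [map_mul, map_mul, Polynomial.eval₂_mul, hp, aeval_X]
      refine Fin.cases ?_ (fun j => ?_) i
      · rw [finSuccEquiv_X_zero, Polynomial.eval₂_X, Fin.cons_zero]
      · rw [finSuccEquiv_X_succ, Polynomial.eval₂_C, Fin.cons_succ]
        exact congrArg _ (aeval_X y j).symm
  have hne : RingHom.ker (aeval (Fin.cons α y) : MvPolynomial (Fin (s.card + 1)) k →ₐ[k] L) ≠ ⊥ := by
    intro h
    have hind : AlgebraicIndependent k (Fin.cons α y : Fin (s.card + 1) → L) :=
      (RingHom.injective_iff_ker_eq_bot _).mpr h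
    have ht := hind.transcendental_adjoin (s := Set.range Fin.succ) (i := 0)
      (fun ⟨j, hj⟩ => Fin.succ_ne_zero j hj)
    rw [Fin.cons_zero, ← Set.range_comp, show (Fin.cons α y : Fin (s.card + 1) → L) ∘ Fin.succ = y from
      funext fun j => Fin.cons_succ _ _ _] at ht
    exact ht (hy.isAlgebraic.isAlgebraic α)
  obtain ⟨F, hF, hFp⟩ := (RingHom.ker_isPrime _).exists_mem_prime_of_ne_bot hne
  refine ⟨F, hFp.irreducible, le_antisymm (fun G hG => ?_) ((Ideal.span_singleton_le_iff_mem _).mpr hF), hz⟩
  have hdvd : finSuccEquiv k s.card F ∣ finSuccEquiv k s.card G :=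
    dvd_of_eval₂_eq_zero φ hφ (hFp.irreducible.map (finSuccEquiv k s.card)) (by rw [← hev]; exact hF)
      (by rw [← hev]; exact hG)
  exact Ideal.mem_span_singleton.mpr ((map_dvd_iff (finSuccEquiv k s.card)).mp hdvd)

end Groth.Agent.GeomIrrSpread
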