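import Groth.Agent.GeomIrrSpread.Main
import Groth.Agent.S2396
import Mathlib.RingTheory.LocalRing.ResidueField.Ideal
import Mathlib.RingTheory.FinitePresentation
import Mathlib.RingTheory.Spectrum.Prime.Topology
import Mathlib.FieldTheory.IsAlgClosed.AlgebraicClosure
import Mathlib.AlgebraicGeometry.Morphisms.FinitePresentation

/-!
# The locus of geometrically irreducible fibres of an algebra of finite presentation
-/

universe u

open TensorProduct AlgebraicGeometry CategoryTheory

set_option autoImplicit false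

namespace Groth.Agent.GeomIrrSpread

/-- The base change of a quotient of a polynomial ring. -/
theorem exists_quotEquiv {R : Type u} [CommRing R] {A : Type u} [CommRing A] [Algebra R A] {n : ℕ}
    (π : MvPolynomial (Fin n) R →ₐ[R] A) (hπ : Function.Surjective π) (S : Set (MvPolynomial (Fin n) R))
    (hS : RingHom.ker π = Ideal.span S) (Ω : Type u) [Field Ω] [Algebra R Ω] :
    Nonempty (Ω ⊗[R] A ≃+* MvPolynomial (Fin n) Ω ⧸ Ideal.span (MvPolynomial.map (algebraMap R Ω) '' S)) := by
  let θ := Algebra.TensorProduct.map (AlgHom.id Ω Ω) π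
  have hθ : Function.Surjective θ := Algebra.TensorProduct.map_surjective _ _ Function.surjective_id hπ
  let e := MvPolynomial.algebraTensorAlgEquiv R Ω (σ := Fin n)
  have hk : RingHom.ker θ.toRingHom =
      Ideal.span ((fun F => (1 : Ω) ⊗ₜ[R] F) '' S) := by
    have h := Algebra.TensorProduct.lTensor_ker (A := Ω) π hπ
    rw [hS, Ideal.map_span] at h
    exact h
  refine ⟨(RingHom.quotientKerEquivOfSurjective hθ).symm.trans (Ideal.quotientEquiv _ _ e.toRingEquiv ?_)⟩
  erw [hk, Ideal.map_span, ← Set.image_comp]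
  refine congrArg Ideal.span (Set.image_congr' fun F => ?_)
  show MvPolynomial.map (algebraMap R Ω) F = e ((1 : Ω) ⊗ₜ[R] F)
  rw [MvPolynomial.algebraTensorAlgEquiv_tmul, one_smul]

/-- Over a field irreducibility does not depend on the algebraically closed field. -/
theorem isPrime_iff_of_field {k : Type u} [Field k] {A : Type u} [CommRing A] [Algebra k A] [Algebra.FiniteType k A]
    (K Ω : Type u) [Field K] [IsAlgClosed K] [Algebra k K] [Field Ω] [IsAlgClosed Ω] [Algebra k Ω] :
    (nilradical (Ω ⊗[k] A)).IsPrime ↔ (nilradical (K ⊗[k] A)).IsPrime := by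
  obtain ⟨f, hf, h⟩ := exists_isPrime_iff (R := k) (A := A) (K := K) (algebraMap k K).injective
  exact h Ω ((map_ne_zero _).mpr hf)

/-- Irreducibility over an algebraically closed field depends only on the point of the base. -/
theorem isPrime_iff_of_ker {R : Type u} [CommRing R] {A : Type u} [CommRing A] [Algebra R A] [Algebra.FiniteType R A]
    (K Ω : Type u) [Field K] [IsAlgClosed K] [Algebra R K] [Field Ω] [IsAlgClosed Ω] [Algebra R Ω]
    (h : RingHom.ker (algebraMap R Ω) = RingHom.ker (algebraMap R K)) :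
    (nilradical (Ω ⊗[R] A)).IsPrime ↔ (nilradical (K ⊗[R] A)).IsPrime := by
  let P := RingHom.ker (algebraMap R K)
  haveI : P.IsPrime := RingHom.ker_isPrime _
  let k := P.ResidueField
  have lift : ∀ (L : Type u) [Field L] [Algebra R L], RingHom.ker (algebraMap R L) = P →
      ∃ φ : k →+* L, ∀ r, φ (algebraMap R k r) = algebraMap R L r := by
    intro L _ _ hL
    have hinj : Function.Injective (Ideal.Quotient.lift P (algebraMap R L) fun a ha => by
        rwa [← RingHom.mem_ker, hL]) :=
      RingHom.lift_injective_of_ker_le_ideal _ _ hL.le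
    exact ⟨IsFractionRing.lift hinj, fun r => by
      rw [IsScalarTower.algebraMap_apply R (R ⧸ P) k, IsFractionRing.lift_algebraMap]
      rfl⟩
  obtain ⟨φ, hφ⟩ := lift Ω h
  obtain ⟨ψ, hψ⟩ := lift K rfl
  letI : Algebra k Ω := φ.toAlgebra
  letI : Algebra k K := ψ.toAlgebra
  haveI : IsScalarTower R k Ω := IsScalarTower.of_algebraMap_eq fun r => (hφ r).symm
  haveI : IsScalarTower R k K := IsScalarTower.of_algebraMap_eq fun r => (hψ r).symm
  constructor
  · intro hp
    exact isPrime_nilradical_of_ringEquiv (Algebra.TensorProduct.cancelBaseChange R k K K A).toRingEquiv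
      ((isPrime_iff_of_field K Ω).mp
        (isPrime_nilradical_of_ringEquiv (Algebra.TensorProduct.cancelBaseChange R k Ω Ω A).toRingEquiv.symm hp))
  · intro hp
    exact isPrime_nilradical_of_ringEquiv (Algebra.TensorProduct.cancelBaseChange R k Ω Ω A).toRingEquiv
      ((isPrime_iff_of_field K Ω).mpr
        (isPrime_nilradical_of_ringEquiv (Algebra.TensorProduct.cancelBaseChange R k K K A).toRingEquiv.symm hp))

/-- The primes at which the geometric fibre is irreducible. -/
def locus (R : Type u) [CommRing R] (A : Type u) [CommRing A] [Algebra R A] : Set (PrimeSpectrum R) :=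
  {p | (nilradical (AlgebraicClosure p.asIdeal.ResidueField ⊗[R] A)).IsPrime}

theorem ker_algebraMap_algebraicClosure {R : Type u} [CommRing R] (p : Ideal R) [p.IsPrime] :
    RingHom.ker (algebraMap R (AlgebraicClosure p.ResidueField)) = p := by
  rw [IsScalarTower.algebraMap_eq R p.ResidueField (AlgebraicClosure p.ResidueField),
    RingHom.ker_comp_of_injective _ (algebraMap p.ResidueField (AlgebraicClosure p.ResidueField)).injective,
    Ideal.ker_algebraMap_residueField]

theorem mem_locus_iff {R : Type u} [CommRing R] {A : Type u} [CommRing A] [Algebra R A] [Algebra.FiniteType R A]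
    (p : PrimeSpectrum R) (Ω : Type u) [Field Ω] [IsAlgClosed Ω] [Algebra R Ω]
    (h : RingHom.ker (algebraMap R Ω) = p.asIdeal) :
    p ∈ locus R A ↔ (nilradical (Ω ⊗[R] A)).IsPrime :=
  isPrime_iff_of_ker Ω _ ((ker_algebraMap_algebraicClosure p.asIdeal).trans h.symm)

theorem isConstructible_locus_noetherian (R : Type u) [CommRing R] [IsNoetherianRing R] (A : Type u) [CommRing A]
    [Algebra R A] [Algebra.FiniteType R A] : Topology.IsConstructible (locus R A) := by
  refine (S2396.result _).mpr fun Y hY hYi => ?_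
  obtain ⟨Q, hP, rfl⟩ : ∃ Q : Ideal R, Q.IsPrime ∧ PrimeSpectrum.zeroLocus (Q : Set R) = Y :=
    ⟨_, PrimeSpectrum.isIrreducible_iff_vanishingIdeal_isPrime.mp hYi,
      (PrimeSpectrum.zeroLocus_vanishingIdeal_eq_closure Y).trans hY.closure_eq⟩
  let K := AlgebraicClosure (FractionRing (R ⧸ Q))
  have hK : Function.Injective (algebraMap (R ⧸ Q) K) := by
    rw [IsScalarTower.algebraMap_eq (R ⧸ Q) (FractionRing (R ⧸ Q)) K, RingHom.coe_comp]
    exact (algebraMap (FractionRing (R ⧸ Q)) K).injective.comp (IsFractionRing.injective _ _)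
  obtain ⟨f, hf, h⟩ := exists_isPrime_iff (R := R ⧸ Q) (A := (R ⧸ Q) ⊗[R] A) (K := K) hK
  obtain ⟨g, rfl⟩ := Ideal.Quotient.mk_surjective f
  have hg : g ∉ Q := fun hg => hf (Ideal.Quotient.eq_zero_iff_mem.mpr hg)
  have key : ∀ p ∈ PrimeSpectrum.zeroLocus (Q : Set R) ∩ (PrimeSpectrum.basicOpen g : Set (PrimeSpectrum R)),
      (p ∈ locus R A ↔ (nilradical (K ⊗[R ⧸ Q] ((R ⧸ Q) ⊗[R] A))).IsPrime) := by
    rintro p ⟨hpQ, hpg⟩
    let Ω := AlgebraicClosure p.asIdeal.ResidueField
    let ρ : R ⧸ Q →+* Ω := Ideal.Quotient.lift Q (algebraMap R Ω) fun a ha => by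
      rw [← RingHom.mem_ker, ker_algebraMap_algebraicClosure]
      exact hpQ ha
    letI : Algebra (R ⧸ Q) Ω := ρ.toAlgebra
    haveI : IsScalarTower R (R ⧸ Q) Ω := IsScalarTower.of_algebraMap_eq fun r => rfl
    have h0 : algebraMap (R ⧸ Q) Ω (Ideal.Quotient.mk Q g) ≠ 0 := fun h0 => hpg (by
      rw [← ker_algebraMap_algebraicClosure p.asIdeal]
      exact h0)
    rw [← h Ω h0]
    exact ⟨isPrime_nilradical_of_ringEquiv (Algebra.TensorProduct.cancelBaseChange R (R ⧸ Q) (R ⧸ Q) Ω A).toRingEquiv.symm,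
      isPrime_nilradical_of_ringEquiv (Algebra.TensorProduct.cancelBaseChange R (R ⧸ Q) (R ⧸ Q) Ω A).toRingEquiv⟩
  by_cases hgen : (nilradical (K ⊗[R ⧸ Q] ((R ⧸ Q) ⊗[R] A))).IsPrime
  · right
    refine ⟨PrimeSpectrum.basicOpen g, (PrimeSpectrum.basicOpen g).isOpen, ⟨⟨Q, hP⟩, hg, fun _ h => h⟩, ?_⟩
    exact fun p hp => (key p ⟨hp.2, hp.1⟩).mpr hgen
  · left
    let Y := PrimeSpectrum.zeroLocus (Q : Set R)
    haveI : IrreducibleSpace Y := Subtype.irreducibleSpace hYi
    have hcl : IsClosed (Subtype.val ⁻¹' (PrimeSpectrum.basicOpen g : Set (PrimeSpectrum R))ᶜ : Set Y) :=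
      (PrimeSpectrum.basicOpen g).isOpen.isClosed_compl.preimage continuous_subtype_val
    refine IsNowhereDense.mono (fun y hy => ?_) (hcl.isNowhereDense_iff.mpr ?_)
    · exact fun hyg => hgen ((key y.1 ⟨y.2, hyg⟩).mp hy)
    · rw [interior_eq_empty_iff_dense_compl, ← Set.preimage_compl, compl_compl]
      exact ((PrimeSpectrum.basicOpen g).isOpen.preimage continuous_subtype_val).dense
        ⟨⟨⟨Q, hP⟩, fun _ h => h⟩, hg⟩

/-- The locus of geometrically irreducible fibres is constructible. -/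
theorem isConstructible_locus (R : Type u) [CommRing R] (A : Type u) [CommRing A] [Algebra R A]
    [Algebra.FinitePresentation R A] : Topology.IsConstructible (locus R A) := by
  classical
  obtain ⟨n, π, hπ, ⟨s, hs⟩⟩ := ‹Algebra.FinitePresentation R A›
  let R₀ := Algebra.adjoin ℤ ((s.biUnion fun F => F.coeffs : Finset R) : Set R)
  haveI : Algebra.FiniteType ℤ R₀ := Subalgebra.fg_iff_finiteType _ |>.mp (Subalgebra.fg_adjoin_finset _)
  haveI : IsNoetherianRing R₀ := Algebra.FiniteType.isNoetherianRing ℤ R₀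
  have hlift : ∀ F ∈ s, ∃ F₀ : MvPolynomial (Fin n) R₀, MvPolynomial.map R₀.subtype F₀ = F := fun F hF =>
    MvPolynomial.mem_range_map_iff_coeffs_subset.mpr fun x hx =>
      ⟨⟨x, Algebra.subset_adjoin (Finset.mem_biUnion.mpr ⟨F, hF, hx⟩)⟩, rfl⟩
  choose! F₀ hF₀ using hlift
  let S₀ : Set (MvPolynomial (Fin n) R₀) := F₀ '' s
  let A₀ := MvPolynomial (Fin n) R₀ ⧸ Ideal.span S₀
  haveI : Algebra.FiniteType R₀ A₀ :=
    Algebra.FiniteType.of_surjective (Ideal.Quotient.mkₐ R₀ _) Ideal.Quotient.mk_surjective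
  let c : Spec (CommRingCat.of R) ⟶ Spec (CommRingCat.of R₀) :=
    Spec.map (CommRingCat.ofHom (algebraMap R₀ R))
  have heq : locus R A = c ⁻¹' locus R₀ A₀ := by
    ext p
    let Ω := AlgebraicClosure p.asIdeal.ResidueField
    haveI : Algebra.FiniteType R A := inferInstance
    obtain ⟨e₁⟩ := exists_quotEquiv π hπ (s : Set (MvPolynomial (Fin n) R)) (by exact hs.symm) Ω
    letI : Algebra R₀ Ω := ((algebraMap R Ω).comp (algebraMap R₀ R)).toAlgebra
    obtain ⟨e₂⟩ := exists_quotEquiv (R := R₀) (A := A₀) (Ideal.Quotient.mkₐ R₀ (Ideal.span S₀)) Ideal.Quotient.mk_surjective S₀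
      (by exact Ideal.Quotient.mkₐ_ker R₀ _) Ω
    have hset : MvPolynomial.map (algebraMap R₀ Ω) '' S₀ = MvPolynomial.map (algebraMap R Ω) '' (s : Set _) := by
      rw [← Set.image_comp]
      refine Set.image_congr fun F hF => ?_
      rw [Function.comp_apply, show algebraMap R₀ Ω = (algebraMap R Ω).comp R₀.subtype from rfl,
        ← MvPolynomial.map_map, hF₀ F hF]
    rw [hset] at e₂
    let q : PrimeSpectrum R₀ := PrimeSpectrum.comap (algebraMap R₀ R) p
    show p ∈ locus R A ↔ q ∈ locus R₀ A₀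
    rw [mem_locus_iff q Ω (by
      show RingHom.ker ((algebraMap R Ω).comp (algebraMap R₀ R)) = _
      rw [← RingHom.comap_ker, ker_algebraMap_algebraicClosure]
      rfl)]
    exact ⟨isPrime_nilradical_of_ringEquiv (e₁.trans e₂.symm), isPrime_nilradical_of_ringEquiv (e₂.trans e₁.symm)⟩
  rw [heq]
  exact c.isConstructible_preimage (isConstructible_locus_noetherian R₀ A₀)

end Groth.Agent.GeomIrrSpread
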