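import Groth.Agent.GeomIrrSpread.Over
import Groth.Agent.GeomIrrSpread.Birational
import Mathlib.RingTheory.Localization.Integer
import Mathlib.RingTheory.EssentialFiniteness
import Mathlib.RingTheory.MvPolynomial.MonomialOrder
import Mathlib.Data.Finsupp.MonomialOrder
import Mathlib.FieldTheory.Perfect

/-!
# Geometric irreducibility is decided near the generic point

For an algebra of finite type over a Noetherian domain, whether the base change to an algebraically closed field has
irreducible spectrum is the same for all fields near the generic point.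
-/

universe u

open TensorProduct

set_option autoImplicit false

namespace Groth.Agent.GeomIrrSpread

variable {R : Type u} [CommRing R] {A : Type u} [CommRing A] [Algebra R A] {K : Type u} [Field K] [Algebra R K]

/-- Every element of a base change to a field comes from the subalgebras containing suitable finitely many scalars. -/
theorem exists_finset_lift (t : K ⊗[R] A) : ∃ s : Finset K, ∀ R' : Subalgebra R K, (s : Set K) ⊆ R' →
    ∃ y : R' ⊗[R] A, Algebra.TensorProduct.map R'.val (AlgHom.id R A) y = t := by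
  classical
  induction t using TensorProduct.induction_on with
  | zero => exact ⟨∅, fun R' _ => ⟨0, map_zero _⟩⟩
  | tmul k a => exact ⟨{k}, fun R' h => ⟨⟨k, h (by simp)⟩ ⊗ₜ a, by simp⟩⟩
  | add p q hp hq =>
    obtain ⟨s, hs⟩ := hp
    obtain ⟨t, ht⟩ := hq
    refine ⟨s ∪ t, fun R' h => ?_⟩
    obtain ⟨y, hy⟩ := hs R' fun x hx => h (Finset.mem_union_left _ hx)
    obtain ⟨y', hy'⟩ := ht R' fun x hx => h (Finset.mem_union_right _ hx)
    exact ⟨y + y', by rw [map_add, hy, hy']⟩

/-- Points of a finitely generated subalgebra of `K` in the fields near the generic point. -/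
theorem exists_point_of_subalgebra [IsDomain R] [IsNoetherianRing R] (hK : Function.Injective (algebraMap R K))
    (R' : Subalgebra R K) [Algebra.FiniteType R R'] {g : R'} (hg : g ≠ 0) :
    ∃ f : R, f ≠ 0 ∧ ∀ (Ω : Type u) [Field Ω] [IsAlgClosed Ω] [Algebra R Ω], algebraMap R Ω f ≠ 0 →
      ∃ φ : R' →ₐ[R] Ω, φ g ≠ 0 := by
  let T := Localization.Away g
  haveI : Algebra.FiniteType R' T := inferInstance
  haveI : Algebra.FiniteType R T := Algebra.FiniteType.trans (S := R') inferInstance inferInstance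
  have hu : IsUnit (R'.val.toRingHom g) :=
    isUnit_iff_ne_zero.mpr fun h => hg (Subtype.ext h)
  let χ : T →+* K := IsLocalization.Away.lift g hu
  let χ' : T →ₐ[R] K :=
    { χ with
      commutes' := fun r => by
        show χ (algebraMap R T r) = _
        rw [IsScalarTower.algebraMap_apply R R' T]
        exact IsLocalization.Away.lift_eq g hu _ }
  haveI : Nontrivial (K ⊗[R] T) :=
    (Algebra.TensorProduct.lift (AlgHom.id R K) χ' fun _ _ => Commute.all _ _).toRingHom.domain_nontrivial
  obtain ⟨f, hf, h⟩ := exists_nontrivial_iff T K hK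
  refine ⟨f, hf, fun Ω _ _ _ hΩ => ?_⟩
  haveI := (h Ω hΩ).mpr inferInstance
  obtain ⟨ω⟩ := exists_point (R := R) (T := T) (Ω := Ω)
  exact ⟨ω.comp (IsScalarTower.toAlgHom R R' T), ((IsLocalization.Away.algebraMap_isUnit (S := T) g).map ω).ne_zero⟩

theorem isPrime_nilradical_of_ringEquiv {B B' : Type*} [CommRing B] [CommRing B'] (e : B ≃+* B')
    (h : (nilradical B).IsPrime) : (nilradical B').IsPrime := by
  have he : nilradical B' = (nilradical B).comap e.symm.toRingHom := by
    ext x
    rw [Ideal.mem_comap, mem_nilradical, mem_nilradical]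
    exact (IsNilpotent.map_iff e.symm.injective).symm
  rw [he]
  exact h.comap _

theorem nontrivial_tensor_away_iff {Ω : Type u} [Field Ω] [Algebra R Ω] (a : A) :
    Nontrivial (Ω ⊗[R] Localization.Away a) ↔ ¬ IsNilpotent ((1 : Ω) ⊗ₜ[R] a) := by
  have e := IsLocalization.Away.tensorProductEquivTMulRight R Ω a (Localization.Away a)
  rw [e.toEquiv.nontrivial_congr]
  constructor
  · rintro h ⟨N, hN⟩
    have hu := ((IsLocalization.Away.algebraMap_isUnit (S := Localization.Away ((1 : Ω) ⊗ₜ[R] a)) ((1 : Ω) ⊗ₜ[R] a)).pow N)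
    rw [← map_pow, hN, map_zero] at hu
    exact not_isUnit_zero hu
  · intro h
    by_contra hn
    haveI := not_nontrivial_iff_subsingleton.mp hn
    obtain ⟨⟨c, N, rfl⟩, hc⟩ := (IsLocalization.eq_iff_exists (Submonoid.powers ((1 : Ω) ⊗ₜ[R] a)) _).mp
      (Subsingleton.elim (algebraMap (Ω ⊗[R] A) (Localization.Away ((1 : Ω) ⊗ₜ[R] a)) 1) (algebraMap _ _ 0))
    exact h ⟨N, by simpa using hc⟩

/-- If the geometric generic fibre is irreducible, so are the geometric fibres near the generic point. -/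
theorem exists_isPrime [IsDomain R] [IsNoetherianRing R] [Algebra.FiniteType R A] [IsAlgClosed K]
    (hK : Function.Injective (algebraMap R K)) (hprime : (nilradical (K ⊗[R] A)).IsPrime) :
    ∃ f : R, f ≠ 0 ∧ ∀ (Ω : Type u) [Field Ω] [IsAlgClosed Ω] [Algebra R Ω], algebraMap R Ω f ≠ 0 →
      (nilradical (Ω ⊗[R] A)).IsPrime := by
  classical
  haveI := hprime
  let D := (K ⊗[R] A) ⧸ nilradical (K ⊗[R] A)
  let L := FractionRing D
  haveI : Algebra.FiniteType K (K ⊗[R] A) := inferInstance
  haveI : Algebra.FiniteType K D := Algebra.FiniteType.of_surjective (Ideal.Quotient.mkₐ K _) Ideal.Quotient.mk_surjective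
  haveI : Algebra.EssFiniteType D L := Algebra.EssFiniteType.of_isLocalization L (nonZeroDivisors D)
  haveI : Algebra.EssFiniteType K L := Algebra.EssFiniteType.comp K D L
  let q : K ⊗[R] A →ₐ[K] L := (IsScalarTower.toAlgHom K D L).comp (Ideal.Quotient.mkₐ K _)
  have hq : ∀ y, q y = 0 → IsNilpotent y := fun y hy => mem_nilradical.mp
    (Ideal.Quotient.eq_zero_iff_mem.mp ((map_eq_zero_iff _ (IsFractionRing.injective D L)).mp hy))
  obtain ⟨n, z, F₀, hF₀, hker₀, htop⟩ := exists_hypersurface K L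
  obtain ⟨π, hπ⟩ := Algebra.FiniteType.iff_quotient_mvPolynomial''.mp (inferInstance : Algebra.FiniteType R A) |>.choose_spec
  let m := (Algebra.FiniteType.iff_quotient_mvPolynomial''.mp (inferInstance : Algebra.FiniteType R A)).choose
  let gen : Fin m → A := fun i => π (MvPolynomial.X i)
  have hgen : Algebra.adjoin R (Set.range gen) = ⊤ := by
    rw [show Set.range gen = π '' Set.range MvPolynomial.X from (Set.range_comp π MvPolynomial.X),
      ← AlgHom.map_adjoin, MvPolynomial.adjoin_range_X, Algebra.map_top]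
    exact AlgHom.range_eq_top π |>.mpr hπ
  -- common denominators
  have hfrac : ∀ i, ∃ r s : MvPolynomial (Fin n) K, MvPolynomial.aeval z s ≠ 0 ∧
      q ((1 : K) ⊗ₜ[R] gen i) * MvPolynomial.aeval z s = MvPolynomial.aeval z r := by
    intro i
    have hx : q ((1 : K) ⊗ₜ[R] gen i) ∈ IntermediateField.adjoin K (Set.range z) := by
      rw [htop]; exact IntermediateField.mem_top
    obtain ⟨r, s, h⟩ := (IntermediateField.mem_adjoin_range_iff K z _).mp hx
    rcases eq_or_ne (MvPolynomial.aeval z s) 0 with hs | hs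
    · refine ⟨0, 1, by rw [map_one]; exact one_ne_zero, ?_⟩
      rw [h, hs, div_zero, zero_mul, map_zero]
    · exact ⟨r, s, hs, by rw [h, div_mul_cancel₀ _ hs]⟩
  choose r₀ s₀ hs₀ hrs₀ using hfrac
  let w₀ := ∏ i, s₀ i
  let a₀ : Fin m → MvPolynomial (Fin n) K := fun i => r₀ i * ∏ j ∈ Finset.univ.erase i, s₀ j
  obtain ⟨c₁, hc₁⟩ := IsLocalization.exist_integer_multiples_of_finite (nonZeroDivisors D) z
  choose b₁ hb₁ using hc₁
  obtain ⟨c₀, hc₀⟩ := Ideal.Quotient.mk_surjective (c₁ : D)
  choose b₀ hb₀ using fun j => Ideal.Quotient.mk_surjective (b₁ j)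
  obtain ⟨sc, hsc⟩ := exists_finset_lift c₀
  choose sb hsb using fun j => exists_finset_lift (b₀ j)
  let μ : MonomialOrder (Fin n) := MonomialOrder.lex
  let s : Finset K := F₀.coeffs ∪ {(μ.leadingCoeff F₀)⁻¹} ∪ w₀.coeffs ∪ (Finset.univ.biUnion fun i => (a₀ i).coeffs) ∪
    sc ∪ Finset.univ.biUnion sb
  let R' := Algebra.adjoin R (s : Set K)
  haveI : Algebra.FiniteType R R' := Subalgebra.fg_iff_finiteType _ |>.mp (Subalgebra.fg_adjoin_finset s)
  haveI : IsNoetherianRing R' := Algebra.FiniteType.isNoetherianRing R R'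
  have hsub : ∀ x ∈ s, x ∈ R' := fun x hx => Algebra.subset_adjoin hx
  have hlift : ∀ P : MvPolynomial (Fin n) K, P.coeffs ⊆ s →
      ∃ Q : MvPolynomial (Fin n) R', MvPolynomial.map (algebraMap R' K) Q = P := by
    intro P hP
    exact MvPolynomial.mem_range_map_iff_coeffs_subset.mpr fun x hx => ⟨⟨x, hsub x (hP hx)⟩, rfl⟩
  obtain ⟨F, hF⟩ := hlift F₀ fun x hx => by simp [s, hx]
  obtain ⟨w, hw⟩ := hlift w₀ fun x hx => by simp [s, hx]
  choose a ha using fun i => hlift (a₀ i) fun x hx => by
    simp only [s, Finset.mem_union, Finset.mem_biUnion, Finset.mem_univ, true_and]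
    exact Or.inl (Or.inl (Or.inr ⟨i, hx⟩))
  obtain ⟨c, hc⟩ := hsc R' fun x hx => hsub x (by
    rw [Finset.mem_coe] at hx
    simp [s, hx])
  choose b hb using fun j => hsb j R' fun x hx => hsub x (by
    rw [Finset.mem_coe] at hx
    simp only [s, Finset.mem_union, Finset.mem_biUnion, Finset.mem_univ, true_and]
    exact Or.inr ⟨j, hx⟩)
  -- the algebra over `R'`
  let qA : A →ₐ[R] L := (q.restrictScalars R).comp Algebra.TensorProduct.includeRight
  let ψ : R' ⊗[R] A →ₐ[R'] L := Algebra.TensorProduct.lift (Algebra.ofId R' L) qA fun _ _ => Commute.all _ _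
  have hψq : ∀ y, ψ y = q (Algebra.TensorProduct.map R'.val (AlgHom.id R A) y) := by
    intro y
    induction y using TensorProduct.induction_on with
    | zero => simp
    | tmul x t =>
      rw [Algebra.TensorProduct.lift_tmul, Algebra.TensorProduct.map_tmul]
      have : (R'.val x) ⊗ₜ[R] (AlgHom.id R A t) = (x : K) • ((1 : K) ⊗ₜ[R] t) := by
        rw [smul_tmul', smul_eq_mul, mul_one]; rfl
      rw [this, map_smul, Algebra.smul_def]
      rfl
    | add p q hp hq => simp only [map_add, hp, hq]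
  have hψ : ∀ y, ψ y = 0 → IsNilpotent ((1 : K) ⊗ₜ[R'] y) := by
    intro y hy
    rw [hψq] at hy
    let e := Algebra.TensorProduct.cancelBaseChange R R' K K A
    have he : e ((1 : K) ⊗ₜ[R'] y) = Algebra.TensorProduct.map R'.val (AlgHom.id R A) y := by
      clear hy
      induction y using TensorProduct.induction_on with
      | zero => simp
      | tmul x t =>
        rw [Algebra.TensorProduct.cancelBaseChange_tmul, Algebra.TensorProduct.map_tmul, Algebra.smul_def, mul_one]
        rfl
      | add p q hp hq => simp only [tmul_add, map_add, hp, hq]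
    rw [← IsNilpotent.map_iff (f := e) e.injective, he]
    exact hq _ hy
  have hgen' : Algebra.adjoin R' (Set.range fun i => (1 : R') ⊗ₜ[R] gen i) = ⊤ := by
    have h1 : ∀ t : A, (1 : R') ⊗ₜ[R] t ∈ Algebra.adjoin R' (Set.range fun i => (1 : R') ⊗ₜ[R] gen i) := by
      intro t
      have ht : t ∈ Algebra.adjoin R (Set.range gen) := hgen ▸ Algebra.mem_top
      induction ht using Algebra.adjoin_induction with
      | mem t ht => obtain ⟨i, rfl⟩ := ht; exact Algebra.subset_adjoin ⟨i, rfl⟩
      | algebraMap r =>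
        rw [Algebra.algebraMap_eq_smul_one, tmul_smul, ← Algebra.TensorProduct.one_def,
          ← Algebra.algebraMap_eq_smul_one, IsScalarTower.algebraMap_apply R R' (R' ⊗[R] A)]
        exact Subalgebra.algebraMap_mem _ _
      | add p q _ _ hp hq => rw [tmul_add]; exact add_mem hp hq
      | mul p q _ _ hp hq =>
        rw [show (1 : R') ⊗ₜ[R] (p * q) = ((1 : R') ⊗ₜ[R] p) * ((1 : R') ⊗ₜ[R] q) by
          rw [Algebra.TensorProduct.tmul_mul_tmul, one_mul]]
        exact mul_mem hp hq
    rw [eq_top_iff]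
    intro y _
    induction y using TensorProduct.induction_on with
    | zero => exact zero_mem _
    | tmul x t =>
      rw [show x ⊗ₜ[R] t = x • ((1 : R') ⊗ₜ[R] t) by rw [smul_tmul', smul_eq_mul, mul_one]]
      exact Subalgebra.smul_mem _ (h1 t) x
    | add p q hp hq => exact add_mem (hp trivial) (hq trivial)
  have hev : ∀ G : MvPolynomial (Fin n) R',
      MvPolynomial.aeval z G = MvPolynomial.aeval z (MvPolynomial.map (algebraMap R' K) G) :=
    fun G => (MvPolynomial.aeval_map_algebraMap K z G).symm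
  have hinjR' : Function.Injective (algebraMap R' K) := Subtype.val_injective
  have hlead : IsUnit (μ.leadingCoeff F) := by
    have hdeg : μ.degree (MvPolynomial.map (algebraMap R' K) F) = μ.degree F := by
      simp only [MonomialOrder.degree, MvPolynomial.support_map_of_injective F hinjR']
    have h1 : ((μ.leadingCoeff F : R') : K) = μ.leadingCoeff F₀ := by
      rw [← hF]
      simp only [MonomialOrder.leadingCoeff, hdeg, MvPolynomial.coeff_map]
      rfl
    refine IsUnit.of_mul_eq_one ⟨(μ.leadingCoeff F₀)⁻¹, hsub _ (by simp [s])⟩ (Subtype.ext ?_)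
    rw [Subalgebra.coe_mul, h1]
    exact mul_inv_cancel₀ (μ.leadingCoeff_ne_zero_iff.mpr hF₀.ne_zero)
  obtain ⟨g, hg, hmain⟩ := exists_isPrime_of_model (R := R') (L := L) (A := R' ⊗[R] A) K hinjR' ψ hψ
    (fun i => (1 : R') ⊗ₜ[R] gen i) hgen' z F (hF ▸ hF₀)
    (by rw [hev, hF]; exact RingHom.mem_ker.mp (hker₀.ge (Ideal.mem_span_singleton_self F₀)))
    (fun G hG => by
      refine dvd_of_map_dvd (algebraMap R' K) hinjR' μ hlead ?_
      rw [hF, ← Ideal.mem_span_singleton, ← hker₀, RingHom.mem_ker, ← hev]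
      exact hG)
    w (by rw [hev, hw, map_prod]; exact Finset.prod_ne_zero_iff.mpr fun i _ => hs₀ i)
    a (fun i => by
      rw [hψq, hev, hev, hw, ha, map_prod, map_mul, map_prod, Algebra.TensorProduct.map_tmul, map_one,
        ← hrs₀ i, ← Finset.mul_prod_erase _ _ (Finset.mem_univ i), mul_assoc]
      rfl)
    c (by
      rw [hψq, hc]
      show algebraMap D L (Ideal.Quotient.mk _ c₀) ≠ 0
      rw [hc₀]
      exact IsFractionRing.to_map_ne_zero_of_mem_nonZeroDivisors c₁.2)
    b (fun j => by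
      rw [hψq, hψq, hc, hb]
      show z j * algebraMap D L (Ideal.Quotient.mk _ c₀) = algebraMap D L (Ideal.Quotient.mk _ (b₀ j))
      rw [hc₀, hb₀, hb₁, Algebra.smul_def, mul_comm])
  obtain ⟨f, hf, hpt⟩ := exists_point_of_subalgebra hK R' hg
  refine ⟨f, hf, fun Ω _ _ _ hΩ => ?_⟩
  obtain ⟨φ, hφ⟩ := hpt Ω hΩ
  letI : Algebra R' Ω := φ.toRingHom.toAlgebra
  haveI : IsScalarTower R R' Ω := IsScalarTower.of_algebraMap_eq fun x => (φ.commutes x).symm
  exact isPrime_nilradical_of_ringEquiv
    (Algebra.TensorProduct.cancelBaseChange R R' R' Ω A).toRingEquiv (hmain Ω hφ)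

/-- If the geometric generic fibre is not irreducible, neither are the geometric fibres near the generic point. -/
theorem exists_not_isPrime [IsDomain R] [IsNoetherianRing R] [Algebra.FiniteType R A] [IsAlgClosed K]
    (hK : Function.Injective (algebraMap R K)) (hprime : ¬ (nilradical (K ⊗[R] A)).IsPrime) :
    ∃ f : R, f ≠ 0 ∧ ∀ (Ω : Type u) [Field Ω] [IsAlgClosed Ω] [Algebra R Ω], algebraMap R Ω f ≠ 0 →
      ¬ (nilradical (Ω ⊗[R] A)).IsPrime := by
  classical
  by_cases hnt : Nontrivial (K ⊗[R] A)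
  swap
  · obtain ⟨f, hf, h⟩ := exists_nontrivial_iff A K hK
    refine ⟨f, hf, fun Ω _ _ _ hΩ hp => hp.ne_top ?_⟩
    haveI := not_nontrivial_iff_subsingleton.mp (mt (h Ω hΩ).mp hnt)
    exact Subsingleton.elim _ _
  obtain ⟨x, y, hxy, hx, hy⟩ : ∃ x y : K ⊗[R] A, x * y ∈ nilradical (K ⊗[R] A) ∧ x ∉ nilradical (K ⊗[R] A) ∧
      y ∉ nilradical (K ⊗[R] A) := by
    by_contra h
    push_neg at h
    refine hprime ⟨fun htop => ?_, fun {x y} hxy => or_iff_not_imp_left.mpr (h x y hxy)⟩
    exact not_isNilpotent_one (mem_nilradical.mp (htop ▸ Submodule.mem_top : (1 : K ⊗[R] A) ∈ _))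
  obtain ⟨sx, hsx⟩ := exists_finset_lift x
  obtain ⟨sy, hsy⟩ := exists_finset_lift y
  let R' := Algebra.adjoin R ((sx ∪ sy : Finset K) : Set K)
  haveI : Algebra.FiniteType R R' := Subalgebra.fg_iff_finiteType _ |>.mp (Subalgebra.fg_adjoin_finset _)
  haveI : IsNoetherianRing R' := Algebra.FiniteType.isNoetherianRing R R'
  obtain ⟨a, ha⟩ := hsx R' fun t ht => Algebra.subset_adjoin (Finset.mem_union_left _ ht)
  obtain ⟨b, hb⟩ := hsy R' fun t ht => Algebra.subset_adjoin (Finset.mem_union_right _ ht)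
  let e := Algebra.TensorProduct.cancelBaseChange R R' K K A
  have he : ∀ v : R' ⊗[R] A, e ((1 : K) ⊗ₜ[R'] v) = Algebra.TensorProduct.map R'.val (AlgHom.id R A) v := by
    intro v
    induction v using TensorProduct.induction_on with
    | zero => simp
    | tmul s t =>
      rw [Algebra.TensorProduct.cancelBaseChange_tmul, Algebra.TensorProduct.map_tmul, Algebra.smul_def, mul_one]
      rfl
    | add p q hp hq => simp only [tmul_add, map_add, hp, hq]
  have hinjR' : Function.Injective (algebraMap R' K) := Subtype.val_injective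
  rw [mem_nilradical] at hxy hx hy
  obtain ⟨N, hN⟩ := hxy
  obtain ⟨g₀, hg₀, hzero⟩ := exists_tmul_eq_zero (R' ⊗[R] A) K hinjR'
  obtain ⟨ga, hga, hnta⟩ := exists_nontrivial_iff (R := R') (Localization.Away a) K hinjR'
  obtain ⟨gb, hgb, hntb⟩ := exists_nontrivial_iff (R := R') (Localization.Away b) K hinjR'
  obtain ⟨f, hf, hpt⟩ := exists_point_of_subalgebra hK R' (mul_ne_zero hg₀ (mul_ne_zero hga hgb))
  refine ⟨f, hf, fun Ω _ _ _ hΩ hp => ?_⟩
  obtain ⟨φ, hφ⟩ := hpt Ω hΩ
  simp only [map_mul, mul_ne_zero_iff] at hφ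
  letI : Algebra R' Ω := φ.toRingHom.toAlgebra
  haveI : IsScalarTower R R' Ω := IsScalarTower.of_algebraMap_eq fun t => (φ.commutes t).symm
  have hp' := isPrime_nilradical_of_ringEquiv (Algebra.TensorProduct.cancelBaseChange R R' R' Ω A).toRingEquiv.symm hp
  have hmem : ((1 : Ω) ⊗ₜ[R'] a) * ((1 : Ω) ⊗ₜ[R'] b) ∈ nilradical (Ω ⊗[R'] (R' ⊗[R] A)) := by
    refine mem_nilradical.mpr ⟨N, ?_⟩
    rw [Algebra.TensorProduct.tmul_mul_tmul, one_mul, Algebra.TensorProduct.tmul_pow, one_pow]
    refine hzero Ω hφ.1 _ (e.injective ?_)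
    rw [he, map_pow, map_mul, ha, hb, hN, map_zero]
  rcases hp'.mem_or_mem hmem with h | h
  · refine (nontrivial_tensor_away_iff a).mp ((hnta Ω hφ.2.1).mpr ((nontrivial_tensor_away_iff a).mpr fun hn => hx ?_))
      (mem_nilradical.mp h)
    rw [← ha, ← he]
    exact hn.map e
  · refine (nontrivial_tensor_away_iff b).mp ((hntb Ω hφ.2.2).mpr ((nontrivial_tensor_away_iff b).mpr fun hn => hy ?_))
      (mem_nilradical.mp h)
    rw [← hb, ← he]
    exact hn.map e

/-- Irreducibility of the geometric fibre is decided near the generic point (EGA IV 9.7.7). -/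
theorem exists_isPrime_iff [IsDomain R] [IsNoetherianRing R] [Algebra.FiniteType R A] [IsAlgClosed K]
    (hK : Function.Injective (algebraMap R K)) :
    ∃ f : R, f ≠ 0 ∧ ∀ (Ω : Type u) [Field Ω] [IsAlgClosed Ω] [Algebra R Ω], algebraMap R Ω f ≠ 0 →
      ((nilradical (Ω ⊗[R] A)).IsPrime ↔ (nilradical (K ⊗[R] A)).IsPrime) := by
  by_cases h : (nilradical (K ⊗[R] A)).IsPrime
  · obtain ⟨f, hf, hh⟩ := exists_isPrime hK h
    exact ⟨f, hf, fun Ω _ _ _ hΩ => iff_of_true (hh Ω hΩ) h⟩
  · obtain ⟨f, hf, hh⟩ := exists_not_isPrime hK h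
    exact ⟨f, hf, fun Ω _ _ _ hΩ => iff_of_false (hh Ω hΩ) h⟩

end Groth.Agent.GeomIrrSpread
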