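import Groth.Agent.GeomIrrSpread.Neutral
import Groth.Agent.GrpSchLib.HomFibre
import Groth.Agent.S5336
import Groth.Agent.H9Misc.RatFunLib

/-!
# The image of the neutral component under a homomorphism
-/

universe u

open CategoryTheory Limits AlgebraicGeometry MonoidalCategory CartesianMonoidalCategory MonObj GrpObj
  TopologicalSpace
open scoped CategoryTheory.Obj

set_option autoImplicit false

namespace Groth.Agent.GeomIrrSpread

open Groth.Agent.GrpSchLib Groth.Agent.GrpSchLib.Neutral

variable {S : Scheme.{u}} {G H : Over S} [GrpObj G] [GrpObj H] (u : G ⟶ H) [IsMonHom u]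

theorem image_neutralSet_subset : u.left '' SGA3x.neutralSet G ⊆ SGA3x.neutralSet H := by
  have hunit : ∀ s, u.left (unit G s) = unit H s := fun s =>
    congrArg (fun m : 𝟙_ (Over S) ⟶ H => m.left s) (IsMonHom.one_hom u)
  have hfib : ∀ z, H.hom (u.left z) = G.hom z := fun z =>
    congrArg (fun m : G.left ⟶ S => m z) (Over.w u)
  rintro _ ⟨z, hz, rfl⟩
  rw [mem_neutralSet_iff] at hz
  rw [mem_neutralSet_iff, hfib]
  refine (isPreconnected_connectedComponentIn.image _ u.left.continuous.continuousOn).subset_connectedComponentIn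
    ⟨_, mem_connectedComponentIn (hom_unit G _), hunit _⟩ ?_ ⟨z, hz, rfl⟩
  rintro _ ⟨w, hw, rfl⟩
  show H.hom (u.left w) = G.hom z
  rw [hfib]
  exact (connectedComponentIn_subset (G.hom ⁻¹' {G.hom z}) _ hw : _)

variable [LocallyOfFinitePresentation G.hom] [LocallyOfFinitePresentation H.hom]

theorem neutralSet_subset_image [Flat u.left] : SGA3x.neutralSet H ⊆ u.left '' SGA3x.neutralSet G := by
  intro y hy
  let s := H.hom y
  let σ := S.fromSpecResidueField s
  let πG := pullback.fst G.hom σ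
  let πH := pullback.fst H.hom σ
  have hG : Topology.IsEmbedding πG := (G.hom.fiberι s).isEmbedding
  have hH : Topology.IsEmbedding πH := (H.hom.fiberι s).isEmbedding
  let φ := ((Over.pullback σ).map u).left
  have sq := HomFibre.map_isPullback u σ
  haveI : Flat φ := MorphismProperty.of_isPullback (P := @Flat) sq ‹_›
  haveI : LocallyOfFiniteType (fib G s).hom := inferInstanceAs (LocallyOfFiniteType (pullback.snd G.hom σ))
  haveI : LocallyOfFiniteType (fib H s).hom := inferInstanceAs (LocallyOfFiniteType (pullback.snd H.hom σ))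
  haveI : IsLocallyNoetherian (fib G s).left := LocallyOfFiniteType.isLocallyNoetherian (fib G s).hom
  haveI : IsLocallyNoetherian (fib H s).left := LocallyOfFiniteType.isLocallyNoetherian (fib H s).hom
  haveI : LocallyOfFinitePresentation (u.left ≫ H.hom) := by rw [Over.w u]; infer_instance
  haveI : LocallyOfFinitePresentation u.left := Groth.Agent.S12442.result u.left H.hom
  haveI : LocallyOfFinitePresentation φ := MorphismProperty.of_isPullback (P := @LocallyOfFinitePresentation) sq ‹_›
  haveI : UniversallyOpen φ := UniversallyOpen.of_flat φ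
  let e := η[fib G s].left (IsLocalRing.closedPoint (S.residueField s))
  obtain ⟨O, hO, hOe⟩ := hG.isInducing.isOpen_iff.mp (isOpen_connectedComponent e)
  obtain ⟨W, hW, hWe⟩ := hH.isInducing.isOpen_iff.mp
    (φ.isOpenMap _ (isOpen_connectedComponent e))
  have hfib : ∀ z, H.hom (u.left z) = G.hom z := fun z =>
    congrArg (fun m : G.left ⟶ S => m z) (Over.w u)
  have hcomm : ∀ z, u.left (πG z) = πH (φ z) := fun z => by
    rw [← Scheme.Hom.comp_apply, sq.w, Scheme.Hom.comp_apply]
  have hON : ∀ z, z ∈ O → G.hom z = s → z ∈ SGA3x.neutralSet G := by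
    intro z hz hzs
    obtain ⟨w, rfl⟩ : z ∈ Set.range πG := (Scheme.Hom.range_fiberι G.hom s).symm ▸ hzs
    rw [mem_neutralSet_iff, hzs, connectedComponentIn_eq]
    exact ⟨w, hOe.le hz, rfl⟩
  have hu1 : u.left (unit G s) = unit H s :=
    congrArg (fun m : 𝟙_ (Over S) ⟶ H => m.left s) (IsMonHom.one_hom u)
  have hunitW : unit H s ∈ W := by
    have h1 : φ e ∈ πH ⁻¹' W := hWe.ge ⟨e, mem_connectedComponent, rfl⟩
    have h2 : πH (φ e) = unit H s := by rw [← hcomm, fst_unit, hu1]
    rwa [Set.mem_preimage, h2] at h1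
  obtain ⟨p, hp1, hp2, hp⟩ := exists_mul H hy ⟨W, hW⟩ hunitW
  let U : G.left.Opens := ⟨O, hO⟩
  let j : Over.mk (U.ι ≫ G.hom) ⟶ G := Over.homMk U.ι rfl
  let v : Over.mk (U.ι ≫ G.hom) ⟶ H := j ≫ u
  have hp' : (H ⊗ H).hom p = s := by
    have := congrArg (fun f : (H ⊗ H).left ⟶ S => f p) (Over.w μ[H])
    exact this.symm.trans (congrArg H.hom hp)
  have hfst : H.hom ((fst H H).left p) = s :=
    (congrArg (fun f : (H ⊗ H).left ⟶ S => f p) (Over.w (fst H H))).trans hp'
  have hsnd : H.hom ((snd H H).left p) = s :=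
    (congrArg (fun f : (H ⊗ H).left ⟶ S => f p) (Over.w (snd H H))).trans hp'
  have hmem : ∀ x, x ∈ W → H.hom x = s → x ∈ Set.range v.left := by
    intro x hx hxs
    obtain ⟨w, rfl⟩ : x ∈ Set.range πH := (Scheme.Hom.range_fiberι H.hom s).symm ▸ hxs
    obtain ⟨z, hz, rfl⟩ := hWe.le hx
    refine ⟨⟨πG z, hOe.ge hz⟩, ?_⟩
    show (U.ι ≫ u.left) ⟨πG z, _⟩ = _
    rw [Scheme.Hom.comp_apply]
    exact hcomm z
  have hr : Set.range (v ⊗ₘ v).left = (fst H H).left ⁻¹' Set.range v.left ∩ (snd H H).left ⁻¹' Set.range v.left := by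
    rw [Over.tensorHom_left]
    exact Scheme.Pullback.range_map _ _ _ _ _ _ _ _ _
  obtain ⟨q, hq⟩ : p ∈ Set.range (v ⊗ₘ v).left := hr ▸ ⟨hmem _ hp1 hfst, hmem _ hp2 hsnd⟩
  let r := (j ⊗ₘ j).left q
  have hru : (u ⊗ₘ u).left r = p := by
    rw [← hq]
    show ((j ⊗ₘ j).left ≫ (u ⊗ₘ u).left) q = _
    rw [← Over.comp_left, tensorHom_comp_tensorHom]
  have hr' : (G ⊗ G).hom r = s :=
    (congrArg (fun f : (G ⊗ G).left ⟶ S => f r) (Over.w (u ⊗ₘ u))).symm.trans
      ((congrArg (H ⊗ H).hom hru).trans hp')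
  have h1 : (fst G G).left r ∈ O := by
    rw [← left_comp_apply, tensorHom_fst, left_comp_apply]
    exact Subtype.prop ((fst (Over.mk (U.ι ≫ G.hom)) (Over.mk (U.ι ≫ G.hom))).left q : U)
  have h2 : (snd G G).left r ∈ O := by
    rw [← left_comp_apply, tensorHom_snd, left_comp_apply]
    exact Subtype.prop ((snd (Over.mk (U.ι ≫ G.hom)) (Over.mk (U.ι ≫ G.hom))).left q : U)
  refine ⟨μ[G].left r, mul_mem_neutralSet G (hON _ h1 ?_) (hON _ h2 ?_), ?_⟩
  · exact (congrArg (fun f : (G ⊗ G).left ⟶ S => f r) (Over.w (fst G G))).trans hr'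
  · exact (congrArg (fun f : (G ⊗ G).left ⟶ S => f r) (Over.w (snd G G))).trans hr'
  · rw [← left_comp_apply, IsMonHom.mul_hom, left_comp_apply, hru]
    exact hp

theorem flat_of_image_eq [Flat G.hom] (hH : ∀ s : S, IsReduced (H.hom.fiber s))
    (h : u.left '' SGA3x.neutralSet G = SGA3x.neutralSet H) : Flat u.left := by
  refine Flat.of_stalkMap _ fun x => ?_
  let s := G.hom x
  let σ := S.fromSpecResidueField s
  let φ := (Over.pullback σ).map u
  haveI : LocallyOfFiniteType (fib G s).hom := inferInstanceAs (LocallyOfFiniteType (pullback.snd G.hom σ))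
  haveI : LocallyOfFiniteType (fib H s).hom := inferInstanceAs (LocallyOfFiniteType (pullback.snd H.hom σ))
  haveI : IsLocallyNoetherian (fib H s).left := LocallyOfFiniteType.isLocallyNoetherian (fib H s).hom
  haveI : Flat (fib G s).hom := inferInstanceAs (Flat (pullback.snd G.hom σ))
  obtain ⟨c, hc, hce⟩ := exists_isMaxPt (η[fib H s].left (IsLocalRing.closedPoint (S.residueField s)))
  have hcN : pullback.fst H.hom σ c ∈ SGA3x.neutralSet H := by
    have hcs : H.hom (pullback.fst H.hom σ c) = s := by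
      have : pullback.fst H.hom σ c ∈ Set.range (H.hom.fiberι s) := ⟨c, rfl⟩
      rwa [Scheme.Hom.range_fiberι] at this
    rw [mem_neutralSet_iff, hcs, connectedComponentIn_eq, connectedComponent_one hc hce]
    exact ⟨c, subset_closure rfl, rfl⟩
  obtain ⟨a, -, hau⟩ := h.ge hcN
  obtain ⟨z, hz⟩ : a ∈ Set.range (pullback.fst G.hom σ) := by
    refine (Scheme.Hom.range_fiberι G.hom s).symm ▸ ?_
    show G.hom a = s
    have h1 : H.hom (u.left a) = G.hom a := congrArg (fun m : G.left ⟶ S => m a) (Over.w u)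
    rw [← h1, hau]
    have : pullback.fst H.hom σ c ∈ Set.range (H.hom.fiberι s) := ⟨c, rfl⟩
    rwa [Scheme.Hom.range_fiberι] at this
  have hzc : φ.left z = c := by
    refine (H.hom.fiberι s).isEmbedding.injective ?_
    show pullback.fst H.hom σ (φ.left z) = pullback.fst H.hom σ c
    rw [← hau, ← hz, ← Scheme.Hom.comp_apply, ← (HomFibre.map_isPullback u σ).w, Scheme.Hom.comp_apply]
  haveI : IsReduced (fib H s).left := hH s
  haveI : IsArtinianRing ((fib H s).left.presheaf.stalk c) := H9Misc.RatFunLib.isArtinianRing_stalk c hc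
  have hfield : IsField ((fib H s).left.presheaf.stalk c) := IsArtinianRing.isField_of_isReduced_of_isLocalRing _
  have hflat : Flat φ.left := S5336.result _ (fib G s) (fib H s) φ ⟨z, by
    subst hzc
    exact RingHom.Flat.of_isField hfield _⟩
  obtain ⟨w, hw⟩ := HomFibre.exists_incl x
  have := HomFibre.flat_of_fibre_flat u.left H.hom G.hom (Over.w u) s w φ.left
    (HomFibre.map_isPullback u σ).w.symm (Over.w φ) (Flat.stalkMap φ.left w)
  have hwx : pullback.fst G.hom σ w = x := hw
  rw [hwx] at this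
  exact this

end Groth.Agent.GeomIrrSpread
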