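import Groth.Agent.GeomIrrSpread.NeutralUnivOpen
import Groth.Agent.GeomIrrSpread.SmoothNeutral
import Groth.Agent.GrpSchLib.Coincidence
import Groth.Agent.EGA41Lib.ConsX
import Groth.Agent.MorLib.LimCons
import Groth.Agent.S5332
import Groth.Agent.S3403

/-!
# Translates of an open subscheme by the neutral component (SGA 3, VI_B)
-/

universe u

open CategoryTheory Limits AlgebraicGeometry MonoidalCategory CartesianMonoidalCategory MonObj GrpObj
  TopologicalSpace
open scoped CategoryTheory.Obj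

set_option autoImplicit false

namespace Groth.Agent.GeomIrrSpread

open Groth.Agent.GrpSchLib Groth.Agent.GrpSchLib.Neutral Groth.Agent.S5332

variable {S : Scheme.{u}} {G X : Over S}

/-- A point of the closure of the diagonal in the square of a separated open lies on the diagonal. -/
theorem mem_range_diag_of_mem_closure (U : X.left.Opens) [IsSeparated (U.ι ≫ X.hom)] {z : (X ⊗ X).left}
    (hz : z ∈ closure (Set.range (lift (𝟙 X) (𝟙 X)).left)) (h1 : (fst X X).left z ∈ U)
    (h2 : (snd X X).left z ∈ U) : z ∈ Set.range (lift (𝟙 X) (𝟙 X)).left := by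
  let Δ := (lift (𝟙 X) (𝟙 X)).left
  let m : pullback (U.ι ≫ X.hom) (U.ι ≫ X.hom) ⟶ (X ⊗ X).left :=
    pullback.map (U.ι ≫ X.hom) (U.ι ≫ X.hom) X.hom X.hom U.ι U.ι (𝟙 S) (by simp) (by simp)
  haveI : IsOpenImmersion m := by dsimp [m]; infer_instance
  have hm1 : m ≫ (fst X X).left = pullback.fst _ _ ≫ U.ι := pullback.lift_fst _ _ _
  have hm2 : m ≫ (snd X X).left = pullback.snd _ _ ≫ U.ι := pullback.lift_snd _ _ _
  have hd : pullback.diagonal (U.ι ≫ X.hom) ≫ m = U.ι ≫ Δ := by
    refine pullback.hom_ext ?_ ?_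
    · change _ ≫ (fst X X).left = _ ≫ (fst X X).left
      rw [Category.assoc, hm1, Category.assoc, ← Over.comp_left, lift_fst]
      exact (pullback.diagonal_fst_assoc _ _).trans (Category.comp_id _).symm
    · change _ ≫ (snd X X).left = _ ≫ (snd X X).left
      rw [Category.assoc, hm2, Category.assoc, ← Over.comp_left, lift_snd]
      exact (pullback.diagonal_snd_assoc _ _).trans (Category.comp_id _).symm
  have hmr : Set.range m =
      (fst X X).left ⁻¹' (U : Set X.left) ∩ (snd X X).left ⁻¹' (U : Set X.left) := by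
    simp only [m]
    rw [Scheme.Pullback.range_map, Scheme.Opens.range_ι]
    rfl
  obtain ⟨u, rfl⟩ : z ∈ Set.range m := hmr ▸ ⟨h1, h2⟩
  have hu : u ∈ closure (m ⁻¹' Set.range Δ) := by
    rw [← m.isOpenMap.preimage_closure_eq_closure_preimage m.continuous]
    exact hz
  have hΔU : m ⁻¹' Set.range Δ ⊆ Set.range (pullback.diagonal (U.ι ≫ X.hom)) := by
    rintro y ⟨b, hb⟩
    have hbU : b ∈ U := by
      have h : Δ b ∈ Set.range m := ⟨y, hb.symm⟩
      rw [hmr] at h
      have h' := h.1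
      rwa [Set.mem_preimage, ← left_comp_apply, lift_fst] at h'
    refine ⟨⟨b, hbU⟩, m.isOpenEmbedding.injective ?_⟩
    rw [← hb, ← Scheme.Hom.comp_apply, hd]
    rfl
  obtain ⟨b, hb⟩ := (pullback.diagonal (U.ι ≫ X.hom)).isClosedEmbedding.isClosed_range.closure_subset_iff.mpr hΔU hu
  exact ⟨U.ι b, by rw [← hb, ← Scheme.Hom.comp_apply, ← Scheme.Hom.comp_apply, hd]⟩

variable [GrpObj G]

/-- The translates of `U` by the neutral component. -/
def translate (a : AlgGrp.Action G X) (U : X.left.Opens) : Set X.left :=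
  a.act.left '' {z | (fst G X).left z ∈ SGA3x.neutralSet G ∧ (snd G X).left z ∈ U}

variable (a : AlgGrp.Action G X) (U : X.left.Opens)

theorem mem_translate_iff (x : X.left) :
    x ∈ translate a U ↔
      ∃ q, (snd G X).left q = x ∧ (fst G X).left q ∈ SGA3x.neutralSet G ∧ a.act.left q ∈ U := by
  let φ : G ⊗ X ⟶ G ⊗ X := lift (fst G X ≫ (GrpObj.inv : G ⟶ G)) a.act
  have hsnd : φ ≫ snd G X = a.act := lift_snd _ _
  have hact : φ ≫ a.act = snd G X := by
    have h := inv_point_act a (fst G X) (snd G X)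
    rw [lift_fst_snd, Category.id_comp, Hom.inv_def] at h
    exact h
  have hfst : ∀ z, (fst G X).left z ∈ SGA3x.neutralSet G → (fst G X).left (φ.left z) ∈ SGA3x.neutralSet G := by
    intro z hz
    rw [← left_comp_apply, lift_fst, left_comp_apply]
    exact inv_mem_neutralSet G hz
  constructor
  · rintro ⟨z, ⟨hz1, hz2⟩, rfl⟩
    exact ⟨φ.left z, by rw [← left_comp_apply, hsnd], hfst z hz1, by rw [← left_comp_apply, hact]; exact hz2⟩
  · rintro ⟨q, rfl, hq1, hq2⟩
    exact ⟨φ.left q, ⟨hfst q hq1, by rw [← left_comp_apply, hsnd]; exact hq2⟩, by rw [← left_comp_apply, hact]⟩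

variable [LocallyOfFinitePresentation G.hom]

theorem dim_bc {S' : Scheme.{u}} (f : S' ⟶ S) [LocallyOfFinitePresentation (Red.bc f G).hom] (s' : S') :
    topologicalKrullDim ↥((Red.bc f G).hom ⁻¹' {s'}) = topologicalKrullDim ↥(G.hom ⁻¹' {f s'}) := by
  rw [FibreDimGrp.dim_eq (Red.bc f G) s', FibreDimGrp.dim_eq G (f s'), ← bc_unit G f s']
  exact FibDim.fibreDimAt_baseChange (IsPullback.of_hasPullback G.hom f) _

variable (hdim : IsLocallyConstant (fun s : S => topologicalKrullDim ↥(G.hom ⁻¹' {s})))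

include hdim

theorem mem_translate_of_specializes {x x' : X.left} (hx : x ∈ translate a U) (h : x' ⤳ x) :
    x' ∈ translate a U := by
  rw [mem_translate_iff] at hx ⊢
  obtain ⟨q, hqx, hq1, hq2⟩ := hx
  let G' := Red.bc X.hom G
  haveI : LocallyOfFinitePresentation G'.hom :=
    inferInstanceAs (LocallyOfFinitePresentation (pullback.snd G.hom X.hom))
  have hirr : ∀ y : X.left, IsIrreducible (connectedComponentIn (G'.hom ⁻¹' {y}) (unit G' y)) :=
    UnivOpen.irreducible_of_geomIrreducible G'.hom (g := unit G') (isIrreducible_bcπ G')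
  obtain ⟨ξ, hξy, hξe, hξm, hC, -, hξd⟩ := UnivOpen.exists_component_generic G'.hom (hom_unit G' x) (hirr x)
  obtain ⟨ξ', hξ'y, hξ'e, -, hC', -, hξ'd⟩ := UnivOpen.exists_component_generic G'.hom (hom_unit G' x') (hirr x')
  have hd : topologicalKrullDim ↥(G'.hom ⁻¹' {x}) ≤ topologicalKrullDim ↥(G'.hom ⁻¹' {x'}) := by
    rw [dim_bc, dim_bc]
    exact ((h.map X.hom.continuous).mem_open (hdim.isOpen_fiber _) rfl).ge
  have hle : FibDim.rd G'.hom ξ ≤ FibDim.rd G'.hom ξ' := by
    rw [FibreDimGrp.dim_eq G' x, FibreDimGrp.dim_eq G' x', hξd, hξ'd] at hd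
    exact_mod_cast hd
  have hs : ξ' ⤳ ξ := UnivOpen.generic_specializes (f := G'.hom) (g := unit G') (Over.w η[G']) hirr h hξy hξe hξm hξ'y hξ'e hle
  have hqN : (q : G'.left) ∈ SGA3x.neutralSet G' ∩ G'.hom ⁻¹' {x} :=
    ⟨by rw [neutralSet_bc]; exact hq1, hqx⟩
  rw [neutralSet_inter_fibre, hC] at hqN
  have hξq : ξ' ⤳ q := hs.trans (specializes_iff_mem_closure.2 hqN.1)
  have hξ'N : ξ' ∈ SGA3x.neutralSet G' ∩ G'.hom ⁻¹' {x'} := by
    rw [neutralSet_inter_fibre, hC']
    exact ⟨subset_closure rfl, hξ'y⟩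
  rw [neutralSet_bc] at hξ'N
  exact ⟨ξ', hξ'y, hξ'N.1, (hξq.map a.act.left.continuous).mem_open U.2 hq2⟩

theorem isOpen_translate : IsOpen (translate a U) := by
  have hi : ProCons.IsIndConstructible (translate a U) := by
    have e : translate a U = (snd G X).left '' ((fst G X).left ⁻¹' SGA3x.neutralSet G ∩ a.act.left ⁻¹' U) := by
      ext x
      rw [mem_translate_iff]
      exact ⟨fun ⟨q, h1, h2, h3⟩ => ⟨q, ⟨h2, h3⟩, h1⟩, fun ⟨q, ⟨h2, h3⟩, h1⟩ => ⟨q, h1, h2, h3⟩⟩
    rw [e]
    haveI : LocallyOfFinitePresentation (snd G X).left :=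
      inferInstanceAs (LocallyOfFinitePresentation (pullback.snd G.hom X.hom))
    have hA := MorLib.LimPro.isIndConstructible_preimage (isIndConstructible_neutralSet G) (fst G X).left
    have hB := MorLib.LimCons.ind_of_isOpen (U.2.preimage a.act.left.continuous)
    exact EGA41Lib.ind_image (snd G X).left
      (EGA41Lib.ind_iff.mpr fun V hV => (EGA41Lib.ind_iff.mp hA V hV).inter (EGA41Lib.ind_iff.mp hB V hV))
  exact interior_eq_iff_isOpen.mp (subset_antisymm interior_subset fun x hx =>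
    (S3403.result _ _ hi x).mpr fun x' hx' => mem_translate_of_specializes a U hdim hx hx')

theorem isUnivOpenAt_of_mem_neutralSet {g : G.left} (hg : g ∈ SGA3x.neutralSet G) :
    EGA43.IsUnivOpenAt G.hom g :=
  isUnivOpenAt_of_dim G (G.hom g) (fun _ ht => (ht.mem_open (hdim.isOpen_fiber _) rfl).ge) ⟨hg, rfl⟩

/-- The diagonal is closed at the pairs of translates of a separated open. -/
theorem mem_range_diag_of_translate [IsSeparated (U.ι ≫ X.hom)] {z : (X ⊗ X).left}
    (hz : z ∈ closure (Set.range (lift (𝟙 X) (𝟙 X)).left)) (h1 : (fst X X).left z ∈ translate a U)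
    (h2 : (snd X X).left z ∈ translate a U) : z ∈ Set.range (lift (𝟙 X) (𝟙 X)).left := by
  let K : Type u := AlgebraicClosure ((X ⊗ X).left.residueField z)
  let t₀ : Spec (CommRingCat.of K) ⟶ (X ⊗ X).left :=
    Spec.map (CommRingCat.ofHom (algebraMap ((X ⊗ X).left.residueField z) K)) ≫
      (X ⊗ X).left.fromSpecResidueField z
  let w₀ : ↥(Spec (CommRingCat.of K)) := IsLocalRing.closedPoint K
  let t : Spec (CommRingCat.of K) ⟶ S := t₀ ≫ (X ⊗ X).hom
  let T : Over S := Over.mk t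
  let P : T ⟶ X ⊗ X := Over.homMk t₀ rfl
  have hP : P.left w₀ = z := by
    change t₀ w₀ = z
    simp only [t₀, Scheme.Hom.comp_apply]
    exact Scheme.fromSpecResidueField_apply _ _
  suffices hxy : P ≫ fst X X = P ≫ snd X X by
    refine ⟨(P ≫ fst X X).left w₀, ?_⟩
    have : P = (P ≫ fst X X) ≫ lift (𝟙 X) (𝟙 X) := by
      refine CartesianMonoidalCategory.hom_ext _ _ ?_ ?_
      · simp
      · simpa using hxy.symm
    rw [← hP]
    exact congrArg (fun Q : T ⟶ X ⊗ X => Q.left w₀) this.symm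
  let s := t w₀
  obtain ⟨⟨s', φ⟩, hφ⟩ := (Scheme.SpecToEquivOfField K S).symm.surjective t
  replace hφ : Spec.map φ ≫ S.fromSpecResidueField s' = t := hφ
  let pG : (G ⊗ T).left ⟶ Spec (CommRingCat.of K) := (snd G T).left
  haveI : LocallyOfFiniteType pG := inferInstanceAs (LocallyOfFiniteType (pullback.snd G.hom t))
  haveI : JacobsonSpace ↥(G ⊗ T).left := LocallyOfFiniteType.jacobsonSpace pG
  -- the neutral component over the field
  let C : Set (G ⊗ T).left := (fst G T).left ⁻¹' SGA3x.neutralSet G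
  have hCirr : IsIrreducible C := by
    have := isIrreducible_preimage_neutralSet G s' K φ.hom
    rw [show CommRingCat.ofHom φ.hom = φ from rfl, hφ] at this
    exact this
  have hCcl : IsClosed C := by
    have hfib : ∀ r, G.hom ((fst G T).left r) = s := fun r => by
      rw [← Scheme.Hom.comp_apply, Over.w (fst G T), ← Over.w (snd G T), Scheme.Hom.comp_apply]
      exact congrArg t (Subsingleton.elim (α := PrimeSpectrum K) _ _)
    obtain ⟨ξ, -, -, -, hξC, -, -⟩ := UnivOpen.exists_component_generic G.hom (hom_unit G s)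
      (UnivOpen.irreducible_of_geomIrreducible G.hom (g := unit G) (isIrreducible_bcπ G) s)
    have hC : C = (fst G T).left ⁻¹' closure {ξ} := by
      ext r
      show (fst G T).left r ∈ SGA3x.neutralSet G ↔ _
      have h3 : (fst G T).left r ∈ SGA3x.neutralSet G ↔
          (fst G T).left r ∈ SGA3x.neutralSet G ∩ G.hom ⁻¹' {s} := ⟨fun h => ⟨h, hfib r⟩, fun h => h.1⟩
      rw [h3, neutralSet_inter_fibre, hξC]
      exact ⟨fun h => h.1, fun h => ⟨h, hfib r⟩⟩
    rw [hC]
    exact isClosed_closure.preimage (fst G T).left.continuous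
  let O : (T ⟶ X) → Set ↥(G ⊗ T).left := fun x => ((G ◁ x) ≫ a.act).left ⁻¹' (U : Set X.left)
  have hOo : ∀ x, IsOpen (O x) := fun x => U.isOpen.preimage ((G ◁ x) ≫ a.act).left.continuous
  have hOne : ∀ x : T ⟶ X, x.left w₀ ∈ translate a U → (C ∩ O x).Nonempty := by
    intro x hx
    obtain ⟨q, hqx, hq1, hq2⟩ := (mem_translate_iff a U _).1 hx
    obtain ⟨r, hr1, -⟩ := Scheme.exists_preimage_of_isPullback
      (GrpSchLib.isPullback_whiskerLeft (W := G) x) q w₀ hqx
    refine ⟨r, ?_, ?_⟩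
    · show (fst G T).left r ∈ SGA3x.neutralSet G
      rw [show fst G T = (G ◁ x) ≫ fst G X by simp, left_comp_apply, hr1]
      exact hq1
    · show ((G ◁ x) ≫ a.act).left r ∈ U
      rw [left_comp_apply, hr1]
      exact hq2
  have hx1 : (P ≫ fst X X).left w₀ ∈ translate a U := by rw [left_comp_apply, hP]; exact h1
  have hx2 : (P ≫ snd X X).left w₀ ∈ translate a U := by rw [left_comp_apply, hP]; exact h2
  have hne : (C ∩ (O (P ≫ fst X X) ∩ O (P ≫ snd X X))).Nonempty :=
    hCirr.2 _ _ (hOo _) (hOo _) (hOne _ hx1) (hOne _ hx2)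
  obtain ⟨q, ⟨hqC, hq1, hq2⟩, hq⟩ := nonempty_inter_closedPoints hne
    (hCcl.isLocallyClosed.inter ((hOo _).inter (hOo _)).isLocallyClosed)
  let σ : T ⟶ G ⊗ T := Over.homMk (pointOfClosedPoint pG q hq) (by
    rw [← Over.w (snd G T)]
    exact (Category.assoc _ _ _).symm.trans
      ((congrArg (· ≫ t) (pointOfClosedPoint_comp pG q hq)).trans (Category.id_comp _)))
  have hσ2 : σ ≫ snd G T = 𝟙 T := Over.OverMorphism.ext (pointOfClosedPoint_comp pG q hq)
  have hσ : σ.left w₀ = q := pointOfClosedPoint_apply pG q hq w₀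
  let g : T ⟶ G := σ ≫ fst G T
  have hgN : g.left w₀ ∈ SGA3x.neutralSet G := by rw [left_comp_apply, hσ]; exact hqC
  let qm : G ⊗ (X ⊗ X) ⟶ X ⊗ X := lift ((G ◁ fst X X) ≫ a.act) ((G ◁ snd X X) ≫ a.act)
  let Q₀ : T ⟶ G ⊗ (X ⊗ X) := lift g P
  let p := (snd G (X ⊗ X)).left
  have hopen : EGA43.IsOpenAt p (Q₀.left w₀) := by
    refine isUnivOpenAt_of_mem_neutralSet hdim hgN _ (X ⊗ X).hom (Q₀.left w₀) ?_
    show (fst G (X ⊗ X)).left (Q₀.left w₀) = g.left w₀
    rw [← left_comp_apply, lift_fst]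
  have hmem : Q₀.left w₀ ∈ closure (p ⁻¹' Set.range (lift (𝟙 X) (𝟙 X)).left) := by
    rw [mem_closure_iff_nhds]
    intro N hN
    have h3 : p (Q₀.left w₀) ∈ closure (Set.range (lift (𝟙 X) (𝟙 X)).left) := by
      rw [← left_comp_apply, lift_snd, hP]
      exact hz
    obtain ⟨_, ⟨n, hn, rfl⟩, hb⟩ := mem_closure_iff_nhds.1 h3 _ (hopen N hN)
    exact ⟨n, hn, hb⟩
  have hcl : qm.left (Q₀.left w₀) ∈ closure (Set.range (lift (𝟙 X) (𝟙 X)).left) := by
    refine map_mem_closure qm.left.continuous hmem ?_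
    rintro y ⟨b, hb⟩
    obtain ⟨r, hr, -⟩ := Scheme.exists_preimage_of_isPullback
      (GrpSchLib.isPullback_whiskerLeft (W := G) (lift (𝟙 X) (𝟙 X))) y b hb.symm
    refine ⟨a.act.left r, ?_⟩
    have e : (G ◁ lift (𝟙 X) (𝟙 X)) ≫ qm = a.act ≫ lift (𝟙 X) (𝟙 X) := by
      apply CartesianMonoidalCategory.hom_ext
      · simp [qm, ← MonoidalCategory.whiskerLeft_comp_assoc]
      · simp [qm, ← MonoidalCategory.whiskerLeft_comp_assoc]
    rw [← hr, ← left_comp_apply, ← left_comp_apply, e]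
  have hQq : Q₀ ≫ qm = lift (lift g (P ≫ fst X X) ≫ a.act) (lift g (P ≫ snd X X) ≫ a.act) := by
    simp [Q₀, qm, comp_lift]
  have hin : ∀ x : T ⟶ X, q ∈ O x → (lift g x ≫ a.act).left w₀ ∈ U := by
    intro x hx
    have : lift g x ≫ a.act = σ ≫ (G ◁ x) ≫ a.act := by
      rw [← Category.assoc]
      congr 1
      apply CartesianMonoidalCategory.hom_ext
      · simp [g]
      · simp [reassoc_of% hσ2]
    rw [this, left_comp_apply, hσ]
    exact hx
  have hfin : (Q₀ ≫ qm).left w₀ ∈ Set.range (lift (𝟙 X) (𝟙 X)).left := by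
    rw [left_comp_apply]
    refine mem_range_diag_of_mem_closure U hcl ?_ ?_
    · rw [← left_comp_apply, ← left_comp_apply, ← Category.assoc, hQq, lift_fst]
      exact hin _ hq1
    · rw [← left_comp_apply, ← left_comp_apply, ← Category.assoc, hQq, lift_snd]
      exact hin _ hq2
  have heq := eq_of_mem_range_diag (Q₀ ≫ qm) w₀ hfin
  rw [hQq] at heq
  simp only [lift_fst, lift_snd] at heq
  have := congrArg (fun x => lift g⁻¹ x ≫ a.act) heq
  simpa [inv_point_act] using this

end Groth.Agent.GeomIrrSpread
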