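import Groth.Agent.GeomIrrSpread.Poly
import Mathlib.RingTheory.Localization.BaseChange
import Mathlib.RingTheory.Localization.InvSubmonoid
import Mathlib.LinearAlgebra.TensorProduct.RightExactness
import Mathlib.RingTheory.TensorProduct.MvPolynomial
import Mathlib.RingTheory.Nilpotent.Lemmas

/-!
# Irreducibility of geometric fibres of an algebra with a birational hypersurface model
-/

universe u

open TensorProduct

set_option autoImplicit false

namespace Groth.Agent.GeomIrrSpread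

variable {R L : Type u} [CommRing R] [Field L] [Algebra R L]

/-- The elements of `L` becoming elements of `T` after multiplication by a power of `e`. -/
def loc (T : Subalgebra R L) {e : L} (he : e ∈ T) : Subalgebra R L where
  carrier := {s | ∃ k, s * e ^ k ∈ T}
  mul_mem' := by
    rintro a b ⟨k, hk⟩ ⟨l, hl⟩
    exact ⟨k + l, by rw [pow_add, mul_mul_mul_comm]; exact mul_mem hk hl⟩
  add_mem' := by
    rintro a b ⟨k, hk⟩ ⟨l, hl⟩
    refine ⟨k + l, ?_⟩
    rw [add_mul, pow_add, ← mul_assoc, mul_comm (e ^ k) (e ^ l), ← mul_assoc]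
    exact add_mem (mul_mem hk (pow_mem he l)) (mul_mem hl (pow_mem he k))
  algebraMap_mem' r := ⟨0, by rw [pow_zero, mul_one]; exact T.algebraMap_mem r⟩

theorem le_loc (T : Subalgebra R L) {e : L} (he : e ∈ T) : T ≤ loc T he :=
  fun s hs => ⟨0, by rwa [pow_zero, mul_one]⟩

theorem inv_mem_loc {T : Subalgebra R L} {e x : L} (he : e ∈ T) (hx : x ≠ 0) {y : L} (hy : y ∈ T)
    (h : x * y = e) : x⁻¹ ∈ loc T he :=
  ⟨1, by rw [pow_one, ← h, inv_mul_cancel_left₀ hx]; exact hy⟩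

theorem loc_le_loc {T T' : Subalgebra R L} {e e' : L} (he : e ∈ T) (he' : e' ∈ T') (h0 : e ≠ 0)
    (hT : T ≤ loc T' he') (hi : e⁻¹ ∈ loc T' he') : loc T he ≤ loc T' he' := by
  rintro s ⟨k, hk⟩
  have h : s = s * e ^ k * e⁻¹ ^ k := by rw [inv_pow, mul_inv_cancel_right₀ (pow_ne_zero k h0)]
  rw [h]
  exact mul_mem (hT hk) (pow_mem hi k)

theorem isLocalization_loc {T : Subalgebra R L} {e : L} (he : e ∈ T) (h0 : e ≠ 0) (S : Subalgebra R L)
    (hS : loc T he = S) [Algebra T S] (halg : ∀ t : T, (algebraMap T S t : L) = t) :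
    IsLocalization.Away (⟨e, he⟩ : T) S := by
  subst hS
  refine IsLocalization.Away.mk (⟨e, he⟩ : T) ?_ (fun s => ?_) fun a b h => ⟨0, ?_⟩
  · refine IsUnit.of_mul_eq_one ⟨e⁻¹, inv_mem_loc he h0 (one_mem T) (mul_one e)⟩ (Subtype.ext ?_)
    rw [Subalgebra.coe_mul, halg]
    exact mul_inv_cancel₀ h0
  · obtain ⟨k, hk⟩ := s.2
    refine ⟨k, ⟨_, hk⟩, Subtype.ext ?_⟩
    rw [Subalgebra.coe_mul, SubmonoidClass.coe_pow, halg, halg]
  · have h' := congrArg (fun s : loc T he => (s : L)) h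
    simp only [halg] at h'
    rw [pow_zero, one_mul, one_mul]
    exact Subtype.ext h'

section Tensor

variable {T S Ω : Type u} [CommRing T] [CommRing S] [Algebra R T] [Algebra R S] [Algebra T S] [IsScalarTower R T S]
  (e : T) [IsLocalization.Away e S] [Field Ω] [Algebra R Ω]

include e in
theorem isDomain_tensor_of_loc [IsDomain (Ω ⊗[R] T)] [Nontrivial (Ω ⊗[R] S)] : IsDomain (Ω ⊗[R] S) := by
  let j := Algebra.TensorProduct.map (AlgHom.id Ω Ω) (IsScalarTower.toAlgHom R T S)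
  letI : Algebra (Ω ⊗[R] T) (Ω ⊗[R] S) := j.toRingHom.toAlgebra
  haveI : IsScalarTower Ω (Ω ⊗[R] T) (Ω ⊗[R] S) := IsScalarTower.of_algebraMap_eq fun a => (j.commutes a).symm
  haveI := IsLocalization.tensorProduct_tensorProduct_right R Ω (Submonoid.powers e) S
    (RingHom.ext fun t => by simp [RingHom.algebraMap_toAlgebra, j])
  refine IsLocalization.isDomain_of_le_nonZeroDivisors (Ω ⊗[R] S)
    (M := (Submonoid.powers e).map (Algebra.TensorProduct.includeRight (R := R) (A := Ω))) ?_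
  rintro _ ⟨_, ⟨k, rfl⟩, rfl⟩
  refine mem_nonZeroDivisors_of_ne_zero fun h0 => ?_
  have hu : IsUnit (algebraMap (Ω ⊗[R] T) (Ω ⊗[R] S) ((Algebra.TensorProduct.includeRight (R := R) (A := Ω)) (e ^ k))) :=
    IsLocalization.map_units _
      (⟨_, ⟨e ^ k, ⟨k, rfl⟩, rfl⟩⟩ : (Submonoid.powers e).map (Algebra.TensorProduct.includeRight (R := R) (A := Ω)))
  rw [h0, map_zero] at hu
  exact not_isUnit_zero hu

theorem injective_tensor_of_loc (he : ∀ m : Ω ⊗[R] T, ((1 : Ω) ⊗ₜ[R] e) * m = 0 → m = 0) :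
    Function.Injective (Algebra.TensorProduct.map (AlgHom.id Ω Ω) (IsScalarTower.toAlgHom R T S)) := by
  let j := Algebra.TensorProduct.map (AlgHom.id Ω Ω) (IsScalarTower.toAlgHom R T S)
  letI : Algebra (Ω ⊗[R] T) (Ω ⊗[R] S) := j.toRingHom.toAlgebra
  haveI : IsScalarTower Ω (Ω ⊗[R] T) (Ω ⊗[R] S) := IsScalarTower.of_algebraMap_eq fun a => (j.commutes a).symm
  haveI := IsLocalization.tensorProduct_tensorProduct_right R Ω (Submonoid.powers e) S
    (RingHom.ext fun t => by simp [RingHom.algebraMap_toAlgebra, j])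
  refine IsLocalization.injective (Ω ⊗[R] S)
    (M := (Submonoid.powers e).map (Algebra.TensorProduct.includeRight (R := R) (A := Ω))) ?_
  rintro _ ⟨_, ⟨k, rfl⟩, rfl⟩
  have h1 : ((1 : Ω) ⊗ₜ[R] e) ∈ nonZeroDivisors (Ω ⊗[R] T) :=
    mem_nonZeroDivisors_iff_left.mpr he
  show (Algebra.TensorProduct.includeRight (R := R) (A := Ω)) (e ^ k) ∈ _
  rw [map_pow]
  exact pow_mem h1 k

end Tensor

/-- An element of a domain of finite type is a nonzerodivisor on the fibres near the generic point. -/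
theorem exists_nzd [IsDomain R] [IsNoetherianRing R] (T : Type u) [CommRing T] [IsDomain T] [Algebra R T]
    [Algebra.FiniteType R T] {e : T} (he : e ≠ 0) :
    ∃ f : R, f ≠ 0 ∧ ∀ (Ω : Type u) [Field Ω] [Algebra R Ω], algebraMap R Ω f ≠ 0 →
      ∀ m : Ω ⊗[R] T, ((1 : Ω) ⊗ₜ[R] e) * m = 0 → m = 0 := by
  obtain ⟨f, hf, ι, φ, hφ, hr⟩ := GenFree.exists_gfree (R := R) (M := T ⧸ Ideal.span {e}) T
  let q : T →ₗ[R] T ⧸ Ideal.span {e} := (Ideal.Quotient.mkₐ R (Ideal.span {e})).toLinearMap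
  have hq : Function.Surjective q := Ideal.Quotient.mk_surjective
  let l : (ι →₀ R) →ₗ[R] T :=
    Finsupp.linearCombination R fun i => Function.surjInv hq (φ (Finsupp.single i 1))
  have hl : ∀ c, q (l c) = φ c := by
    intro c
    exact LinearMap.congr_fun (f := q ∘ₗ l) (g := φ) (Finsupp.lhom_ext' fun i => LinearMap.ext_ring (by
      simpa [l] using Function.surjInv_eq hq (φ (Finsupp.single i 1)))) c
  let Ψ : T × (ι →₀ R) →ₗ[R] T := (LinearMap.mulLeft R e).coprod l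
  have hqe : ∀ t, q (e * t) = 0 := fun t =>
    Ideal.Quotient.eq_zero_iff_mem.mpr (Ideal.mem_span_singleton.mpr ⟨t, rfl⟩)
  refine ⟨f, hf, fun Ω _ _ hΩ m hm => ?_⟩
  have hinj := lTensor_injective (Ω := Ω) f (isUnit_iff_ne_zero.mpr hΩ) Ψ (by
    refine (injective_iff_map_eq_zero _).mpr fun ⟨t, c⟩ h => ?_
    simp only [Ψ, LinearMap.coprod_apply, LinearMap.mulLeft_apply] at h
    have hc : c = 0 := hφ (by
      have := congrArg q h
      rwa [map_add, hqe, zero_add, hl, map_zero, ← map_zero φ] at this)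
    subst hc
    rw [map_zero, add_zero, mul_eq_zero] at h
    exact Prod.ext (h.resolve_left he) rfl) fun t => by
      obtain ⟨k, c, hc⟩ := hr (q t)
      rw [← hl, ← map_smul] at hc
      obtain ⟨b, hb⟩ := Ideal.mem_span_singleton.mp ((Ideal.Quotient.eq).mp hc)
      refine ⟨k, (-b, c), ?_⟩
      simp only [Ψ, LinearMap.coprod_apply, LinearMap.mulLeft_apply, mul_neg, ← hb]
      abel
  have h2 : LinearMap.lTensor Ω Ψ (LinearMap.lTensor Ω (LinearMap.inl R T (ι →₀ R)) m) = 0 := by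
    rw [← LinearMap.comp_apply, ← LinearMap.lTensor_comp, LinearMap.coprod_inl, ← hm]
    exact LinearMap.congr_fun (f := LinearMap.lTensor Ω (LinearMap.mulLeft R e))
      (g := LinearMap.mulLeft R ((1 : Ω) ⊗ₜ[R] e)) (TensorProduct.ext' fun a t => by
        simp [Algebra.TensorProduct.tmul_mul_tmul]) m
  have h3 := hinj (h2.trans (map_zero _).symm)
  have h4 := congrArg (LinearMap.lTensor Ω (LinearMap.fst R T (ι →₀ R))) h3
  rwa [← LinearMap.comp_apply, ← LinearMap.lTensor_comp, LinearMap.fst_comp_inl, LinearMap.lTensor_id, map_zero,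
    LinearMap.id_apply] at h4

/-- Vanishing at one field propagates to the fields near the generic point. -/
theorem exists_tmul_eq_zero [IsDomain R] [IsNoetherianRing R] (A : Type u) [CommRing A] [Algebra R A]
    [Algebra.FiniteType R A] (K : Type u) [Field K] [Algebra R K] (hK : Function.Injective (algebraMap R K)) :
    ∃ f : R, f ≠ 0 ∧ ∀ (Ω : Type u) [Field Ω] [Algebra R Ω], algebraMap R Ω f ≠ 0 →
      ∀ y : A, (1 : K) ⊗ₜ[R] y = 0 → (1 : Ω) ⊗ₜ[R] y = 0 := by
  obtain ⟨f, hf, ι, φ, hφ, hr⟩ := GenFree.exists_gfree (R := R) (M := A) A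
  refine ⟨f, hf, fun Ω _ _ hΩ y hy => ?_⟩
  obtain ⟨k, c, hc⟩ := hr y
  have hinj := lTensor_injective (Ω := K) f (isUnit_iff_ne_zero.mpr ((map_ne_zero_iff _ hK).mpr hf)) φ hφ hr
  have h0 : (1 : K) ⊗ₜ[R] c = 0 := hinj (by
    rw [LinearMap.lTensor_tmul, hc, tmul_smul, hy, smul_zero, map_zero])
  have hc0 : c = 0 := by
    classical
    ext i
    have := congrArg (fun z => TensorProduct.finsuppScalarRight R R K ι z i) h0
    simp only [map_zero, Finsupp.coe_zero, Pi.zero_apply, TensorProduct.finsuppScalarRight_apply_tmul_apply] at this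
    rw [Algebra.smul_def, mul_one] at this
    exact (map_eq_zero_iff _ hK).mp this
  rw [hc0, map_zero] at hc
  have h1 : algebraMap R Ω (f ^ k) • ((1 : Ω) ⊗ₜ[R] y) = 0 := by
    rw [algebraMap_smul, ← tmul_smul, ← hc, tmul_zero]
  exact (smul_eq_zero.mp h1).resolve_left (by rw [map_pow]; exact pow_ne_zero _ hΩ)

open MvPolynomial in
/-- An algebra with a birational model by an absolutely irreducible hypersurface has irreducible geometric fibres
near the generic point. -/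
theorem exists_isPrime_of_model [IsDomain R] [IsNoetherianRing R] {A : Type u} [CommRing A] [Algebra R A]
    [Algebra.FiniteType R A] (K : Type u) [Field K] [IsAlgClosed K] [Algebra R K] [Algebra K L]
    [IsScalarTower R K L] (hK : Function.Injective (algebraMap R K)) (ψ : A →ₐ[R] L)
    (hψ : ∀ y, ψ y = 0 → IsNilpotent ((1 : K) ⊗ₜ[R] y))
    {m n : ℕ} (gen : Fin m → A) (hgen : Algebra.adjoin R (Set.range gen) = ⊤) (z : Fin n → L)
    (F : MvPolynomial (Fin n) R) (hF : Irreducible (MvPolynomial.map (algebraMap R K) F))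
    (hFz : aeval z F = 0) (hker : ∀ G : MvPolynomial (Fin n) R, aeval z G = 0 → F ∣ G)
    (w : MvPolynomial (Fin n) R) (hw : aeval z w ≠ 0)
    (a : Fin m → MvPolynomial (Fin n) R) (ha : ∀ i, ψ (gen i) * aeval z w = aeval z (a i))
    (c : A) (hc : ψ c ≠ 0) (b : Fin n → A) (hb : ∀ j, z j * ψ c = ψ (b j)) :
    ∃ f : R, f ≠ 0 ∧ ∀ (Ω : Type u) [Field Ω] [IsAlgClosed Ω] [Algebra R Ω], algebraMap R Ω f ≠ 0 →
      (nilradical (Ω ⊗[R] A)).IsPrime := by
  classical
  let w₀ := aeval z w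
  let c₀ := ψ c
  let M : Subalgebra R L := ψ.range
  let C' : Subalgebra R L := (aeval z : MvPolynomial (Fin n) R →ₐ[R] L).range
  have hw₀ : w₀ ∈ C' := ⟨w, rfl⟩
  have hc₀ : c₀ ∈ M := ⟨c, rfl⟩
  have hM : M ≤ loc C' hw₀ := by
    rw [show M = (⊤ : Subalgebra R A).map ψ from (Algebra.map_top ψ).symm, ← hgen, AlgHom.map_adjoin,
      Algebra.adjoin_le_iff]
    rintro _ ⟨_, ⟨i, rfl⟩, rfl⟩
    exact ⟨1, by rw [pow_one, ha i]; exact ⟨a i, rfl⟩⟩
  have hC : C' ≤ loc M hc₀ := by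
    show (aeval z : MvPolynomial (Fin n) R →ₐ[R] L).range ≤ _
    rw [← Algebra.adjoin_range_eq_range_aeval, Algebra.adjoin_le_iff]
    rintro _ ⟨j, rfl⟩
    exact ⟨1, by rw [pow_one, hb j]; exact ⟨b j, rfl⟩⟩
  obtain ⟨D, hD⟩ := hM hc₀
  obtain ⟨D', hD'⟩ := hC hw₀
  let e : L := c₀ * (w₀ * c₀ ^ D')
  let e' : L := w₀ * (c₀ * w₀ ^ D)
  have he : e ∈ M := mul_mem hc₀ hD'
  have he' : e' ∈ C' := mul_mem hw₀ hD
  have h0 : e ≠ 0 := mul_ne_zero hc (mul_ne_zero hw (pow_ne_zero _ hc))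
  have h0' : e' ≠ 0 := mul_ne_zero hw (mul_ne_zero hc (pow_ne_zero _ hw))
  have hwi : w₀⁻¹ ∈ loc C' he' := inv_mem_loc he' hw hD rfl
  have hci : c₀⁻¹ ∈ loc C' he' := inv_mem_loc he' hc (mul_mem hw₀ (pow_mem hw₀ D)) (by ring)
  have hwi' : w₀⁻¹ ∈ loc M he := inv_mem_loc he hw (mul_mem hc₀ (pow_mem hc₀ D')) (by ring)
  have hci' : c₀⁻¹ ∈ loc M he := inv_mem_loc he hc hD' rfl
  have h1 : loc C' hw₀ ≤ loc C' he' := loc_le_loc hw₀ he' hw (le_loc C' he') hwi
  have h2 : loc M hc₀ ≤ loc M he := loc_le_loc hc₀ he hc (le_loc M he) hci'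
  have heq : loc M he = loc C' he' := by
    refine le_antisymm (loc_le_loc he he' h0 (hM.trans h1) ?_) (loc_le_loc he' he h0' (hC.trans h2) ?_)
    · rw [mul_inv, mul_inv, ← inv_pow]
      exact mul_mem hci (mul_mem hwi (pow_mem hci _))
    · rw [mul_inv, mul_inv, ← inv_pow]
      exact mul_mem hwi' (mul_mem hci' (pow_mem hwi' _))
  let S := loc M he
  letI : Algebra M S := (Subalgebra.inclusion (le_loc M he)).toRingHom.toAlgebra
  haveI : IsScalarTower R M S := IsScalarTower.of_algebraMap_eq fun r => rfl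
  haveI := isLocalization_loc he h0 S rfl fun _ => rfl
  letI : Algebra C' S := (Subalgebra.inclusion ((le_loc C' he').trans heq.ge)).toRingHom.toAlgebra
  haveI : IsScalarTower R C' S := IsScalarTower.of_algebraMap_eq fun r => rfl
  haveI := isLocalization_loc he' h0' S heq.symm fun _ => rfl
  let π := (aeval z : MvPolynomial (Fin n) R →ₐ[R] L).rangeRestrict
  have hπ : Function.Surjective π := AlgHom.rangeRestrict_surjective _
  haveI : Algebra.FiniteType R M := Algebra.FiniteType.of_surjective ψ.rangeRestrict (AlgHom.rangeRestrict_surjective _)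
  haveI : Algebra.FiniteType R C' := Algebra.FiniteType.of_surjective π hπ
  haveI : Algebra.FiniteType C' S := IsLocalization.finiteType_of_monoid_fg (Submonoid.powers (⟨e', he'⟩ : C')) S
  haveI : Algebra.FiniteType R S := Algebra.FiniteType.trans (S := C') inferInstance inferInstance
  haveI : Nontrivial (K ⊗[R] S) :=
    (Algebra.TensorProduct.lift (IsScalarTower.toAlgHom R K L) S.val fun _ _ => Commute.all _ _).toRingHom.domain_nontrivial
  obtain ⟨f₁, hf₁, hirr⟩ := exists_irreducible F K hK hF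
  obtain ⟨f₂, hf₂, hnt⟩ := exists_nontrivial_iff S K hK
  obtain ⟨f₃, hf₃, hnzd⟩ := exists_nzd (R := R) (↥M) (e := (⟨e, he⟩ : M)) fun h => h0 (congrArg Subtype.val h)
  obtain ⟨f₄, hf₄, hnil⟩ := exists_tmul_eq_zero A K hK
  refine ⟨f₁ * (f₂ * (f₃ * f₄)), mul_ne_zero hf₁ (mul_ne_zero hf₂ (mul_ne_zero hf₃ hf₄)), fun Ω _ _ _ hΩ => ?_⟩
  simp only [map_mul, mul_ne_zero_iff] at hΩ
  obtain ⟨hΩ₁, hΩ₂, hΩ₃, hΩ₄⟩ := hΩ
  haveI : IsDomain (Ω ⊗[R] C') := by
    let θ := Algebra.TensorProduct.map (AlgHom.id Ω Ω) π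
    have hθ : Function.Surjective θ :=
      Algebra.TensorProduct.map_surjective _ _ Function.surjective_id hπ
    have hkπ : RingHom.ker π = Ideal.span {F} := by
      refine le_antisymm (fun G hG => Ideal.mem_span_singleton.mpr (hker G (congrArg Subtype.val hG))) ?_
      rw [Ideal.span_singleton_le_iff_mem]
      exact Subtype.ext hFz
    have hp : Prime ((1 : Ω) ⊗ₜ[R] F) := by
      rw [← MulEquiv.prime_iff (MvPolynomial.algebraTensorAlgEquiv R Ω : Ω ⊗[R] MvPolynomial (Fin n) R ≃ₐ[Ω] _)]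
      rw [MvPolynomial.algebraTensorAlgEquiv_tmul, one_smul]
      exact (hirr Ω hΩ₁).prime
    have hθk : RingHom.ker θ.toRingHom = Ideal.span {(1 : Ω) ⊗ₜ[R] F} := by
      have h := Algebra.TensorProduct.lTensor_ker (A := Ω) π hπ
      rw [hkπ, Ideal.map_span, Set.image_singleton] at h
      exact h
    haveI : (RingHom.ker θ.toRingHom).IsPrime := by
      rw [hθk]
      exact (Ideal.span_singleton_prime hp.ne_zero).mpr hp
    exact (RingHom.quotientKerEquivOfSurjective hθ).toMulEquiv.symm.isDomain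
  haveI : Nontrivial (Ω ⊗[R] S) := (hnt Ω hΩ₂).mpr inferInstance
  haveI : IsDomain (Ω ⊗[R] S) := isDomain_tensor_of_loc (T := C') (⟨e', he'⟩ : C')
  have hinj := injective_tensor_of_loc (T := M) (S := S) (⟨e, he⟩ : M) (hnzd Ω hΩ₃)
  haveI : Nontrivial (Ω ⊗[R] M) :=
    (Algebra.TensorProduct.map (AlgHom.id Ω Ω) (IsScalarTower.toAlgHom R M S)).toRingHom.domain_nontrivial
  haveI : IsDomain (Ω ⊗[R] M) := Function.Injective.isDomain _ hinj
  let χ := Algebra.TensorProduct.map (AlgHom.id Ω Ω) ψ.rangeRestrict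
  have hχ : nilradical (Ω ⊗[R] A) = RingHom.ker χ.toRingHom := by
    refine le_antisymm (fun y hy => RingHom.mem_ker.mpr ((mem_nilradical.mp hy).map χ).eq_zero) ?_
    have h := Algebra.TensorProduct.lTensor_ker (A := Ω) ψ.rangeRestrict (AlgHom.rangeRestrict_surjective ψ)
    refine le_trans h.le (Ideal.map_le_iff_le_comap.mpr fun y hy => ?_)
    obtain ⟨N, hN⟩ := hψ y (congrArg Subtype.val hy)
    rw [Algebra.TensorProduct.tmul_pow, one_pow] at hN
    refine mem_nilradical.mpr ⟨N, ?_⟩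
    show ((1 : Ω) ⊗ₜ[R] y) ^ N = 0
    rw [Algebra.TensorProduct.tmul_pow, one_pow]
    exact hnil Ω hΩ₄ _ hN
  rw [hχ]
  exact RingHom.ker_isPrime _

end Groth.Agent.GeomIrrSpread
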