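import Groth.Agent.GeomIrrSpread.Base
import Mathlib.RingTheory.MvPolynomial.Groebner
import Mathlib.Algebra.MvPolynomial.NoZeroDivisors
import Mathlib.RingTheory.Localization.Away.AdjoinRoot
import Mathlib.Order.Interval.Finset.Defs
import Mathlib.Data.Finsupp.Interval

/-!
# Absolutely irreducible polynomials spread out
-/

universe u

open TensorProduct MvPolynomial

set_option autoImplicit false

namespace Groth.Agent.GeomIrrSpread

variable {σ : Type} [Fintype σ]

/-- A nonunit over a field has a coefficient in positive degree. -/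
theorem exists_coeff_ne_zero_of_not_isUnit {L : Type*} [Field L] {G : MvPolynomial σ L} (h0 : G ≠ 0)
    (hG : ¬ IsUnit G) : ∃ d : σ →₀ ℕ, d ≠ 0 ∧ G.coeff d ≠ 0 := by
  by_contra hcon
  push_neg at hcon
  have hC : G = C (G.coeff 0) := by
    classical
    ext d
    rw [coeff_C]
    split_ifs with hd
    · rw [← hd]
    · exact hcon d (Ne.symm hd)
  apply hG
  rw [hC]
  exact (isUnit_iff_ne_zero.mpr fun h => h0 (by rw [hC, h, map_zero])).map C

theorem not_isUnit_of_coeff {L : Type*} [Field L] {G : MvPolynomial σ L} {d : σ →₀ ℕ} (hd : d ≠ 0)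
    (hG : G.coeff d ≠ 0) : ¬ IsUnit G := by
  rintro ⟨u, rfl⟩
  have h : (↑u : MvPolynomial σ L).totalDegree = 0 := by
    have := totalDegree_mul_of_isDomain (f := (↑u : MvPolynomial σ L)) (g := ↑u⁻¹) u.ne_zero u⁻¹.ne_zero
    rw [Units.mul_inv, totalDegree_one] at this
    omega
  have hle := le_totalDegree (mem_support_iff.mpr hG)
  rw [h] at hle
  refine hd (Finsupp.ext fun i => ?_)
  simp only [Finsupp.coe_zero, Pi.zero_apply]
  by_cases hi : i ∈ d.support
  · have : d i ≤ d.sum fun _ n => n := Finset.single_le_sum (f := fun j => d j) (fun j _ => Nat.zero_le _) hi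
    omega
  · exact Finsupp.notMem_support_iff.mp hi

/-- An absolutely irreducible polynomial stays irreducible at the geometric points near the generic point. -/
theorem exists_irreducible {R : Type u} [CommRing R] [IsDomain R] [IsNoetherianRing R] (F : MvPolynomial σ R)
    (K : Type u) [Field K] [IsAlgClosed K] [Algebra R K] (hK : Function.Injective (algebraMap R K))
    (hF : Irreducible (map (algebraMap R K) F)) :
    ∃ f : R, f ≠ 0 ∧ ∀ (Ω : Type u) [Field Ω] [IsAlgClosed Ω] [Algebra R Ω], algebraMap R Ω f ≠ 0 →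
      Irreducible (map (algebraMap R Ω) F) := by
  classical
  obtain ⟨d₀, hd₀, hc₀⟩ := exists_coeff_ne_zero_of_not_isUnit hF.ne_zero hF.not_isUnit
  rw [coeff_map] at hc₀
  let D := F.totalDegree
  let s : Finset (σ →₀ ℕ) := (Fintype.piFinset fun _ : σ => Finset.range (D + 1)).map Finsupp.equivFunOnFinite.symm.toEmbedding
  have hs : ∀ {L : Type u} [Field L] (G H : MvPolynomial σ L) (φ : R →+* L), G ≠ 0 → H ≠ 0 → map φ F = G * H →
      G.support ⊆ s ∧ H.support ⊆ s := by
    intro L _ G H φ hG hH he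
    have hle : (map φ F).totalDegree ≤ D := by
      refine Finset.sup_mono (support_map_subset _ _)
    rw [he, totalDegree_mul_of_isDomain hG hH] at hle
    have aux : ∀ P : MvPolynomial σ L, P.totalDegree ≤ D → P.support ⊆ s := by
      intro P hP d hd
      refine Finset.mem_map.mpr ⟨d, Fintype.mem_piFinset.mpr fun i => Finset.mem_range.mpr (Nat.lt_succ_of_le ?_),
        Finsupp.ext fun _ => rfl⟩
      refine le_trans ?_ ((le_totalDegree hd).trans hP)
      by_cases hi : i ∈ d.support
      · exact Finset.single_le_sum (f := fun j => d j) (fun j _ => Nat.zero_le _) hi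
      · simp [Finsupp.notMem_support_iff.mp hi]
    exact ⟨aux G (by omega), aux H (by omega)⟩
  let V := {d // d ∈ s} ⊕ {d // d ∈ s}
  let P := MvPolynomial V R
  let G₀ : MvPolynomial σ P := ∑ d : {d // d ∈ s}, monomial d.1 (X (Sum.inl d))
  let H₀ : MvPolynomial σ P := ∑ d : {d // d ∈ s}, monomial d.1 (X (Sum.inr d))
  let E : MvPolynomial σ P := G₀ * H₀ - map (algebraMap R P) F
  let I : Ideal P := Ideal.span (Set.range fun d => E.coeff d)
  let T : {d // d ∈ s} × {d // d ∈ s} → Type u := fun ij =>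
    Localization.Away ((Ideal.Quotient.mk I) (X (Sum.inl ij.1) * X (Sum.inr ij.2)))
  haveI : ∀ ij, Algebra.FiniteType (P ⧸ I) (T ij) := fun ij => inferInstance
  haveI : Algebra.FiniteType R (P ⧸ I) := inferInstance
  haveI : ∀ ij, Algebra.FiniteType R (T ij) := fun ij => Algebra.FiniteType.trans (S := P ⧸ I) inferInstance inferInstance
  choose f hf0 hf using fun ij => exists_nontrivial_iff (T ij) K hK
  refine ⟨F.coeff d₀ * ∏ ij, f ij, mul_ne_zero (fun h => hc₀ (by rw [h, map_zero]))
    (Finset.prod_ne_zero_iff.mpr fun ij _ => hf0 ij), fun Ω _ _ _ hΩ => ?_⟩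
  rw [map_mul, mul_ne_zero_iff, map_prod, Finset.prod_ne_zero_iff] at hΩ
  refine ⟨not_isUnit_of_coeff hd₀ (by rw [coeff_map]; exact hΩ.1), fun G H he => ?_⟩
  by_contra hcon
  push_neg at hcon
  have hne : map (algebraMap R Ω) F ≠ 0 := fun h => hΩ.1 (by rw [← coeff_map, h, coeff_zero])
  have hG : G ≠ 0 := fun h => hne (by rw [he, h, zero_mul])
  have hH : H ≠ 0 := fun h => hne (by rw [he, h, mul_zero])
  obtain ⟨i, hi, hiG⟩ := exists_coeff_ne_zero_of_not_isUnit hG hcon.1
  obtain ⟨j, hj, hjH⟩ := exists_coeff_ne_zero_of_not_isUnit hH hcon.2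
  obtain ⟨hsG, hsH⟩ := hs G H _ hG hH he
  let ij : {d // d ∈ s} × {d // d ∈ s} := (⟨i, hsG (mem_support_iff.mpr hiG)⟩, ⟨j, hsH (mem_support_iff.mpr hjH)⟩)
  -- a point over `Ω`
  let ev : P →ₐ[R] Ω := aeval (Sum.elim (fun d => G.coeff d.1) fun d => H.coeff d.1)
  have hsum : ∀ (Q : MvPolynomial σ Ω), Q.support ⊆ s → ∑ d : {d // d ∈ s}, monomial d.1 (Q.coeff d.1) = Q := by
    intro Q hQ
    rw [Finset.sum_coe_sort s fun d => monomial d (Q.coeff d)]
    refine (Finset.sum_subset hQ fun d _ hd => ?_).symm.trans (as_sum Q).symm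
    rw [notMem_support_iff.mp hd, monomial_zero]
  have hevl : ∀ d, ev (X (Sum.inl d)) = G.coeff d.1 := fun d => aeval_X _ (Sum.inl d)
  have hevr : ∀ d, ev (X (Sum.inr d)) = H.coeff d.1 := fun d => aeval_X _ (Sum.inr d)
  have hE : map (ev : P →+* Ω) E = 0 := by
    simp only [E, G₀, H₀, map_sub, map_mul, map_sum, map_monomial, MvPolynomial.map_map, RingHom.coe_coe,
      hevl, hevr]
    rw [hsum G hsG, hsum H hsH, show (ev : P →+* Ω).comp (algebraMap R P) = algebraMap R Ω from AlgHom.comp_algebraMap _, he, sub_self]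
  have hI : ∀ a ∈ I, ev a = 0 := by
    refine fun a ha => (Ideal.span_le.mpr ?_ : I ≤ RingHom.ker (ev : P →+* Ω)) ha
    rintro _ ⟨d, rfl⟩
    show ev (E.coeff d) = 0
    rw [← RingHom.coe_coe ev, ← coeff_map, hE, coeff_zero]
  let evI : P ⧸ I →ₐ[R] Ω := Ideal.Quotient.liftₐ I ev hI
  have hu : IsUnit (evI (Ideal.Quotient.mk I (X (Sum.inl ij.1) * X (Sum.inr ij.2)))) := by
    show IsUnit (ev _)
    rw [map_mul, hevl, hevr]
    exact isUnit_iff_ne_zero.mpr (mul_ne_zero hiG hjH)
  let evT : T ij →+* Ω := IsLocalization.Away.lift (g := evI.toRingHom) _ hu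
  let evT' : T ij →ₐ[R] Ω :=
    { evT with
      commutes' := fun r => by
        show evT (algebraMap R (T ij) r) = _
        rw [IsScalarTower.algebraMap_apply R (P ⧸ I) (T ij)]
        exact (IsLocalization.Away.lift_eq _ hu _).trans (evI.commutes r) }
  haveI hTΩ : Nontrivial (Ω ⊗[R] T ij) :=
    (Algebra.TensorProduct.lift (AlgHom.id R Ω) evT' fun _ _ => Commute.all _ _).toRingHom.domain_nontrivial
  haveI := (hf ij Ω (hΩ.2 ij (Finset.mem_univ _))).mp hTΩ
  -- the point over `K` factors `F`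
  obtain ⟨χ⟩ := exists_point (R := R) (T := T ij) (Ω := K)
  let χP : P →ₐ[R] K := χ.comp ((IsScalarTower.toAlgHom R (P ⧸ I) (T ij)).comp (Ideal.Quotient.mkₐ R I))
  have hKE : map (χP : P →+* K) E = 0 := by
    ext d
    rw [coeff_map, coeff_zero]
    show χ (algebraMap (P ⧸ I) (T ij) (Ideal.Quotient.mk I (E.coeff d))) = 0
    rw [Ideal.Quotient.eq_zero_iff_mem.mpr (Ideal.subset_span (Set.mem_range_self d) : E.coeff d ∈ I),
      map_zero, map_zero]
  rw [map_sub, map_mul, MvPolynomial.map_map, show (χP : P →+* K).comp (algebraMap R P) = algebraMap R K from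
    AlgHom.comp_algebraMap _, sub_eq_zero] at hKE
  have hunit : χP (X (Sum.inl ij.1) * X (Sum.inr ij.2)) ≠ 0 :=
    (((IsLocalization.Away.algebraMap_isUnit (S := T ij)
      (Ideal.Quotient.mk I (X (Sum.inl ij.1) * X (Sum.inr ij.2)))).map χ).ne_zero :)
  rw [map_mul, mul_ne_zero_iff] at hunit
  have hcoeff : ∀ (e : {d // d ∈ s}) (w : {d // d ∈ s} → V),
      (map (χP : P →+* K) (∑ d : {d // d ∈ s}, monomial d.1 (X (w d) : P))).coeff e.1 = χP (X (w e)) := by
    intro e w
    rw [coeff_map, coeff_sum, Finset.sum_eq_single e]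
    · rw [coeff_monomial, if_pos rfl]; rfl
    · intro b _ hb
      rw [coeff_monomial, if_neg fun h => hb (Subtype.ext h)]
    · simp
  rcases hF.isUnit_or_isUnit hKE.symm with h | h
  · exact not_isUnit_of_coeff hi (by rw [show i = ij.1.1 from rfl, hcoeff]; exact hunit.1) h
  · exact not_isUnit_of_coeff hj (by rw [show j = ij.2.1 from rfl, hcoeff]; exact hunit.2) h

/-- Divisibility by a polynomial with unit leading coefficient is not changed by injective maps. -/
theorem dvd_of_map_dvd {R L : Type*} [CommRing R] [Field L] (φ : R →+* L) (hφ : Function.Injective φ)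
    (m : MonomialOrder σ) {F G : MvPolynomial σ R} (hF : IsUnit (m.leadingCoeff F)) (h : map φ F ∣ map φ G) :
    F ∣ G := by
  classical
  obtain ⟨q, r, hqr, -, hr⟩ := m.div_single hF G
  by_cases hr0 : r = 0
  · exact ⟨q, by rw [hqr, hr0, add_zero, mul_comm]⟩
  exfalso
  have hdvd : map φ F ∣ map φ r := by
    have : r = G - q * F := by rw [hqr]; ring
    rw [this, map_sub, map_mul]
    exact dvd_sub h (dvd_mul_left _ _)
  obtain ⟨Q, hQ⟩ := hdvd
  have hr' : map φ r ≠ 0 := fun h0 => hr0 (map_injective φ hφ (by rw [h0, map_zero]))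
  have hF' : map φ F ≠ 0 := fun h0 => hr' (by rw [hQ, h0, zero_mul])
  have hQ0 : Q ≠ 0 := fun h0 => hr' (by rw [hQ, h0, mul_zero])
  have hmem : m.degree F + m.degree Q ∈ r.support := by
    rw [← support_map_of_injective r hφ, hQ]
    have hdeg : m.degree (map φ F) = m.degree F := by
      simp only [MonomialOrder.degree, support_map_of_injective F hφ]
    rw [← hdeg, ← m.degree_mul hF' hQ0]
    exact m.degree_mem_support (mul_ne_zero hF' hQ0)
  exact hr _ hmem le_self_add

end Groth.Agent.GeomIrrSpread
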